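import Groth.Agent.AlgSp.K628.Props
import Groth.Agent.AlgSp.K613.Mono
import Groth.Prelude.Def_AlgSpMor5

/-!
# fpqc locality of isomorphisms, monomorphisms, separated and finite locally free morphisms
-/

set_option autoImplicit false
universe u

open CategoryTheory CategoryTheory.Limits AlgebraicGeometry Opposite

namespace K628.Props

open AlgSp K613.Basic K613.Cover K613.Chart K613.Diag K613.Mono K628.Fqc K628.ZarRep K628.Core K628.Cov K628.Cover
  Groth.Agent.Ega2.QuasiAffine

variable {S : Scheme.{u}} {X Y : Sp S}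

/-! ### Isomorphisms -/

theorem isomorphisms_le : MorphismProperty.isomorphisms Scheme.{u} ≤ QAff.{u} := by
  intro X Y f hf
  have : IsIso f := hf
  exact isAffineHom_le _ _ f inferInstance

theorem isomorphisms_descendsAlong : (MorphismProperty.isomorphisms Scheme.{u}).DescendsAlong fpqc.{u} := inferInstance

theorem repWith_isomorphisms_iff (f : X ⟶ Y) :
    RepWith (MorphismProperty.isomorphisms Scheme.{u}) f ↔ IsIso f := by
  constructor
  · intro h
    refine isIso_of_bijective fun T y => ?_
    obtain ⟨V, fst, snd, sq, hs⟩ := repAt_of_repWith h y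
    have h1 : IsIso snd.left := hs
    have h2 : IsIso snd := by
      have : IsIso ((Over.forget S).map snd) := h1
      exact isIso_of_reflects_iso snd (Over.forget S)
    refine ⟨inv ((yon S).map snd) ≫ fst, ?_, fun x hx => ?_⟩
    · dsimp only
      rw [Category.assoc, sq.w, IsIso.inv_hom_id_assoc]
    · dsimp only at hx
      have hw : x ≫ f = 𝟙 _ ≫ y := by rw [Category.id_comp, hx]
      have h3 : sq.lift _ _ hw = inv ((yon S).map snd) := by
        rw [← cancel_mono ((yon S).map snd), sq.lift_snd, IsIso.inv_hom_id]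
      rw [← h3, sq.lift_fst]
  · intro h
    refine RepAt.repWith fun U y => ⟨U, y ≫ inv f, 𝟙 U, ?_, ?_⟩
    · rw [CategoryTheory.Functor.map_id]
      exact IsPullback.of_vert_isIso ⟨by simp⟩
    · exact inferInstanceAs (IsIso (𝟙 U.left))

theorem isLocalOnBase_isomorphisms :
    IsLocalOnBase (IsFpqcCover (S := S)) (MorphismProperty.isomorphisms (Sp S)) := by
  have h := isLocalOnBase_repWith (S := S) (MorphismProperty.isomorphisms Scheme.{u}) isomorphisms_le
  have h' : RepWith (MorphismProperty.isomorphisms Scheme.{u}) = MorphismProperty.isomorphisms (Sp S) := by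
    ext X Y f
    exact repWith_isomorphisms_iff f
  rwa [h'] at h

/-! ### Monomorphisms -/

theorem repWith_diagonal_isomorphisms_iff (f : X ⟶ Y) :
    RepWith (MorphismProperty.isomorphisms Scheme.{u}) (pullback.diagonal f) ↔ Mono f := by
  rw [repWith_isomorphisms_iff]
  exact pullback.isIso_diagonal_iff f

theorem isLocalOnBase_monomorphisms :
    IsLocalOnBase (IsFpqcCover (S := S)) (MorphismProperty.monomorphisms (Sp S)) := by
  intro ι Y Yi g hY _ hg X f hX Xi p q _ sq
  constructor
  · intro hf i
    exact (MorphismProperty.monomorphisms (Sp S)).of_isPullback (sq i) hf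
  · intro hp
    refine (repWith_diagonal_isomorphisms_iff f).1 (repWith_diagonal_of_qCov (qCov_of_isFpqcCover hg) hX.diag sq _
      fun i => (repWith_diagonal_isomorphisms_iff (p i)).2 (hp i))

/-! ### Separated morphisms -/

theorem isLocalOnBase_isSeparatedMor : IsLocalOnBase (IsFpqcCover (S := S)) IsSeparatedMor := by
  have := Groth.Agent.Desc.MorDescent.descendsAlong_isClosedImmersion.{u}
  intro ι Y Yi g hY _ hg X f hX Xi p q _ sq
  constructor
  · intro hf i
    exact repWith_diagonal_of_isPullback hf (sq i)
  · intro hp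
    exact repWith_diagonal_of_qCov (qCov_of_isFpqcCover hg) hX.diag sq @IsClosedImmersion hp

/-! ### Finite locally free morphisms -/

theorem flat_codescends : RingHom.CodescendsAlong.{u} RingHom.Flat RingHom.FaithfullyFlat := by
  refine .mk _ RingHom.Flat.respectsIso fun R S T _ _ _ _ _ h h' ↦ ?_
  rw [RingHom.flat_algebraMap_iff] at h' ⊢
  rw [RingHom.faithfullyFlat_algebraMap_iff] at h
  exact Module.Flat.of_flat_tensorProduct R T S

theorem flat_descendsAlong : MorphismProperty.DescendsAlong @Flat.{u} fpqc.{u} :=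
  HasRingHomProperty.descendsAlong_flat flat_codescends

theorem finLocFree_eq : finLocFree.{u} = (@IsFinite ⊓ @Flat ⊓ @LocallyOfFinitePresentation : MorphismProperty Scheme.{u}) := by
  ext X Y f
  exact ⟨fun h => ⟨⟨h.1, h.2.1⟩, h.2.2⟩, fun h => ⟨h.1.1, h.1.2, h.2⟩⟩

theorem isLocalOnBase_isFinLocFreeMor : IsLocalOnBase (IsFpqcCover (S := S)) IsFinLocFreeMor := by
  have := Groth.Agent.Desc.MorDescent.descendsAlong_isFinite.{u}
  have := flat_descendsAlong.{u}
  have h1 : (@IsFinite ⊓ @Flat ⊓ @LocallyOfFinitePresentation : MorphismProperty Scheme.{u}).DescendsAlong fpqc.{u} :=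
    inferInstance
  have h2 : IsZariskiLocalAtTarget (@IsFinite ⊓ @Flat ⊓ @LocallyOfFinitePresentation : MorphismProperty Scheme.{u}) :=
    inferInstance
  rw [← finLocFree_eq] at h1 h2
  exact isLocalOnBase_repWith finLocFree fun _ _ f h => isFinite_le _ _ f h.1

end K628.Props
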