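import Groth.Agent.AlgSp.K628.Props2

/-!
# fpqc locality of open immersions
-/

set_option autoImplicit false
universe u

open CategoryTheory CategoryTheory.Limits AlgebraicGeometry Opposite

namespace K628.Props

open AlgSp K613.Basic K613.Cover K613.Chart K613.Diag K613.Mono K628.Fqc K628.ZarRep K628.Core K628.Cov K628.Cover
  Groth.Agent.Ega2.QuasiAffine

variable {S : Scheme.{u}} {X Y : Sp S}

theorem repAt_isOpenImmersion (hX : IsAlgSpace X) (hY : IsAlgSpace Y) (f : X ⟶ Y) [Mono f] {Z Z' : Over S}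
    (h : (yon S).obj Z ⟶ Y) (c : Z' ⟶ Z) (hc : FqC c) (H : RepAt @IsOpenImmersion f ((yon S).map c ≫ h)) :
    RepAt @IsOpenImmersion f h := by
  have hXZ : IsAlgSpace (pullback f h) := isAlgSpace_pullback hX (IsAlgSpace.yon_obj Z) hY f h
  have sq := IsPullback.of_hasPullback f h
  obtain ⟨V, fst, s, sqV, hs⟩ := RepAt.base sq H
  obtain ⟨W, a, ha⟩ := exists_ch hXZ
  obtain ⟨w, hw⟩ := (yon S).map_surjective (a ≫ pullback.snd f h)
  obtain ⟨N, n, m, sq'⟩ := ha.et.1 fst
  have hn : Etale n.left := ha.et.2 _ _ _ sq'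
  obtain ⟨m, rfl⟩ := (yon S).map_surjective m
  have sq1 := sq'.paste_vert sqV
  rw [← hw, ← Functor.map_comp] at sq1
  have sq2 : IsPullback m.left (n ≫ s).left w.left c.left :=
    (IsPullback.of_map (yon S) ((yon S).map_injective (by
      rw [Functor.map_comp, Functor.map_comp]; exact sq1.w)) sq1).map (Over.forget S)
  have hs' : IsOpenImmersion s.left := hs
  have hns : Etale (n ≫ s).left := by
    rw [Over.comp_left]
    infer_instance
  have hwe : Etale w.left := MorphismProperty.of_isPullback_of_descendsAlong (P := @Etale)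
    (Q := fpqc) sq2.flip hc.mem hns
  have hm : Mono (pullback.snd f h) := inferInstance
  obtain ⟨O, o, t, ho, ht, hto⟩ := exists_open_of_mono hm ha.fSurj hw.symm hwe
  refine ⟨O, t ≫ pullback.fst f h, o, ?_, ho⟩
  rw [← hto]
  exact isPullback_iso_comp sq t

theorem isOpenImmersion_mono {f : X ⟶ Y} (hf : RepWith @IsOpenImmersion f) : Mono f := by
  refine mono_of_injective fun T a b hab => ?_
  obtain ⟨V, fst, snd, sq, hs⟩ := repAt_of_repWith hf (a ≫ f)
  have hs' : IsOpenImmersion snd.left := hs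
  have : Mono ((Over.forget S).map snd) := inferInstanceAs (Mono snd.left)
  have hm : Mono snd := (Over.forget S).mono_of_mono_map this
  have h1 : a ≫ f = 𝟙 _ ≫ a ≫ f := by rw [Category.id_comp]
  have h2 : b ≫ f = 𝟙 _ ≫ a ≫ f := by rw [Category.id_comp, hab]
  rw [← sq.lift_fst _ _ h1, ← sq.lift_fst _ _ h2]
  congr 1
  rw [← cancel_mono ((yon S).map snd), sq.lift_snd, sq.lift_snd]

theorem isLocalOnBase_isOpenImmersion : IsLocalOnBase (IsFpqcCover (S := S)) (RepWith @IsOpenImmersion) := by
  intro ι Y Yi g hY hYi hg X f hX Xi p q hXi sq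
  constructor
  · intro hf i
    exact MorphismProperty.of_isPullback (sq i) hf
  · intro hp
    have hm : Mono f := (isLocalOnBase_monomorphisms Yi g hY hYi hg f hX Xi p q hXi sq).2 fun i =>
      isOpenImmersion_mono (hp i)
    refine repWith_of_affine fun Z hZ h => ?_
    obtain ⟨Z', c, -, hc, H⟩ := exists_single (qCov_of_isFpqcCover hg) f sq @IsOpenImmersion
      (fun i W _ l => repAt_of_repWith (hp i) l) hZ h
    exact repAt_isOpenImmersion hX hY f h c hc H

end K628.Props
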