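import Groth.Agent.AlgSp.K628.Cover
import Groth.Agent.Desc.MorDescent
import Groth.Agent.S1127
import Groth.Agent.S1124

/-!
# fpqc locality of affine, quasi-affine, integral, finite morphisms, closed and quasi-compact immersions
-/

set_option autoImplicit false
universe u

open CategoryTheory CategoryTheory.Limits AlgebraicGeometry Opposite

namespace K628.Props

open AlgSp K628.Fqc K628.ZarRep K628.Core K628.Cov K628.Cover Groth.Agent.Ega2.QuasiAffine

variable {S : Scheme.{u}} {X Y : Sp S}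

theorem qAff_descendsAlong : QAff.{u}.DescendsAlong fpqc.{u} := Groth.Agent.S1127.result

theorem isAffineHom_le : @IsAffineHom ≤ QAff.{u} := by
  intro X Y f hf
  have : IsAffineHom f := hf
  refine ⟨inferInstance, fun V hV => ?_⟩
  have : IsAffine (f ⁻¹ᵁ V : Scheme.{u}) := hV.preimage f
  infer_instance

theorem isClosedImmersion_le : @IsClosedImmersion ≤ QAff.{u} := by
  intro X Y f hf
  have : IsClosedImmersion f := hf
  exact isAffineHom_le _ _ f (inferInstanceAs (IsAffineHom f))

theorem isIntegralHom_le : @IsIntegralHom ≤ QAff.{u} := by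
  intro X Y f hf
  have : IsIntegralHom f := hf
  exact isAffineHom_le _ _ f (inferInstanceAs (IsAffineHom f))

theorem isFinite_le : @IsFinite ≤ QAff.{u} := by
  intro X Y f hf
  have : IsFinite f := hf
  exact isAffineHom_le _ _ f (inferInstanceAs (IsAffineHom f))

theorem qcImmersion_le : (@IsImmersion ⊓ @QuasiCompact : MorphismProperty Scheme.{u}) ≤ QAff.{u} := by
  intro X Y f hf
  have : IsImmersion f := hf.1
  have : QuasiCompact f := hf.2
  refine ⟨inferInstance, fun V hV => ?_⟩
  have hV' : IsAffine (V : Scheme.{u}) := hV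
  have h1 : IsImmersion (f ∣_ V) := IsZariskiLocalAtTarget.restrict (P := @IsImmersion) ‹_› V
  have h2 : QuasiCompact (f ∣_ V) := IsZariskiLocalAtTarget.restrict (P := @QuasiCompact) ‹_› V
  have h3 : CompactSpace (f ⁻¹ᵁ V : Scheme.{u}) := QuasiCompact.compactSpace_of_compactSpace (f ∣_ V)
  exact Scheme.IsQuasiAffine.of_isImmersion (f ∣_ V)

theorem isAffineMor_iff (f : X ⟶ Y) : IsAffineMor f ↔
    ∀ Z : Over S, IsAffine Z.left → ∀ h : (yon S).obj Z ⟶ Y, RepAt @IsAffineHom f h := by
  constructor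
  · intro H Z hZ h
    obtain ⟨W, i, fst, sq, hW⟩ := H hZ h
    exact ⟨W, fst, i, sq, inferInstance⟩
  · intro H Z hZ h
    obtain ⟨W, fst, i, sq, hi⟩ := H Z hZ h
    have : IsAffineHom i.left := hi
    exact ⟨W, i, fst, sq, isAffine_of_isAffineHom i.left⟩

theorem isQuasiAffineMor_iff (f : X ⟶ Y) : IsQuasiAffineMor f ↔
    ∀ Z : Over S, IsAffine Z.left → ∀ h : (yon S).obj Z ⟶ Y, RepAt QAff f h := by
  constructor
  · intro H Z hZ h
    obtain ⟨W, i, fst, sq, hW⟩ := H hZ h
    exact ⟨W, fst, i, sq, (HasAffineProperty.iff_of_isAffine (P := QAff)).2 hW⟩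
  · intro H Z hZ h
    obtain ⟨W, fst, i, sq, hi⟩ := H Z hZ h
    exact ⟨W, i, fst, sq, (HasAffineProperty.iff_of_isAffine (P := QAff)).1 hi⟩

theorem isIntegralMor_iff (f : X ⟶ Y) : IsIntegralMor f ↔
    ∀ Z : Over S, IsAffine Z.left → ∀ h : (yon S).obj Z ⟶ Y, RepAt @IsIntegralHom f h := by
  constructor
  · intro H Z hZ h
    obtain ⟨W, i, fst, sq, hW, hi⟩ := H hZ h
    exact ⟨W, fst, i, sq, hi⟩
  · intro H Z hZ h
    obtain ⟨W, fst, i, sq, hi⟩ := H Z hZ h
    have : IsIntegralHom i.left := hi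
    exact ⟨W, i, fst, sq, isAffine_of_isAffineHom i.left, hi⟩

theorem isFiniteMor_iff (f : X ⟶ Y) : IsFiniteMor f ↔
    ∀ Z : Over S, IsAffine Z.left → ∀ h : (yon S).obj Z ⟶ Y, RepAt @IsFinite f h := by
  constructor
  · intro H Z hZ h
    obtain ⟨W, i, fst, sq, hW, hi⟩ := H hZ h
    exact ⟨W, fst, i, sq, hi⟩
  · intro H Z hZ h
    obtain ⟨W, fst, i, sq, hi⟩ := H Z hZ h
    have : IsFinite i.left := hi
    exact ⟨W, i, fst, sq, isAffine_of_isAffineHom i.left, hi⟩

theorem isLocalOnBase_isAffineMor : IsLocalOnBase (IsFpqcCover (S := S)) IsAffineMor :=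
  have := Groth.Agent.Desc.MorDescent.descendsAlong_isAffineHom.{u}
  isLocalOnBase_affine _ @IsAffineHom isAffineHom_le fun _ _ f => isAffineMor_iff f

theorem isLocalOnBase_isQuasiAffineMor : IsLocalOnBase (IsFpqcCover (S := S)) IsQuasiAffineMor :=
  have := qAff_descendsAlong.{u}
  isLocalOnBase_affine _ QAff le_rfl fun _ _ f => isQuasiAffineMor_iff f

theorem isLocalOnBase_isIntegralMor : IsLocalOnBase (IsFpqcCover (S := S)) IsIntegralMor :=
  have := Groth.Agent.Desc.MorDescent.descendsAlong_isIntegralHom.{u}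
  isLocalOnBase_affine _ @IsIntegralHom isIntegralHom_le fun _ _ f => isIntegralMor_iff f

theorem isLocalOnBase_isFiniteMor : IsLocalOnBase (IsFpqcCover (S := S)) IsFiniteMor :=
  have := Groth.Agent.Desc.MorDescent.descendsAlong_isFinite.{u}
  isLocalOnBase_affine _ @IsFinite isFinite_le fun _ _ f => isFiniteMor_iff f

theorem isLocalOnBase_isClosedImmersion : IsLocalOnBase (IsFpqcCover (S := S)) (RepWith @IsClosedImmersion) :=
  have := Groth.Agent.Desc.MorDescent.descendsAlong_isClosedImmersion.{u}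
  isLocalOnBase_repWith @IsClosedImmersion isClosedImmersion_le

theorem isLocalOnBase_qcImmersion :
    IsLocalOnBase (IsFpqcCover (S := S)) (RepWith (@IsImmersion ⊓ @QuasiCompact)) :=
  have := Groth.Agent.S1124.result.{u}
  isLocalOnBase_repWith (@IsImmersion ⊓ @QuasiCompact) qcImmersion_le

end K628.Props
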