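import Groth.Agent.AlgSp.K628.DD
import Groth.Agent.S1134
import Groth.Agent.Ega2.QuasiAffine

/-!
# Fpqc descent of representability for algebraic spaces

`exists_rep` : let `f : X ⟶ h_Z` be a morphism from an algebraic space, `c : Z' ⟶ Z` flat surjective quasi-compact,
and suppose that the base change of `f` along `h_c` is represented by a scheme quasi-affine over `Z'`.  Then `X` is
represented by a scheme quasi-affine over `Z`.
-/

set_option autoImplicit false
universe u

open CategoryTheory CategoryTheory.Limits AlgebraicGeometry Opposite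

namespace K628.Core

open AlgSp K613.Basic K613.Cover K628.Fqc K628.ZarRep K628.DD Groth.Agent.Ega2.QuasiAffine

variable {S : Scheme.{u}} {X : Sp S} {Z Z' V : Over S} {f : X ⟶ (yon S).obj Z} {c : Z' ⟶ Z}
  {fst : (yon S).obj V ⟶ X} {s : V ⟶ Z'}

theorem isPullback_of_left {A B C D : Over S} {a : A ⟶ B} {b : A ⟶ C} {c : B ⟶ D} {d : C ⟶ D}
    (h : IsPullback a.left b.left c.left d.left) : IsPullback a b c d := by
  have w : a ≫ c = b ≫ d := Over.OverMorphism.ext h.w
  have : IsIso (pullback.lift a b w) := by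
    have sq : IsPullback (pullback.fst c d).left (pullback.snd c d).left c.left d.left :=
      (IsPullback.of_hasPullback c d).map (Over.forget S)
    have e : (pullback.lift a b w).left = (h.isoIsPullback _ _ sq).hom := by
      apply sq.hom_ext
      · rw [IsPullback.isoIsPullback_hom_fst, ← Over.comp_left, pullback.lift_fst]
      · rw [IsPullback.isoIsPullback_hom_snd, ← Over.comp_left, pullback.lift_snd]
    have : IsIso ((Over.forget S).map (pullback.lift a b w)) := by
      change IsIso (pullback.lift a b w).left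
      rw [e]; infer_instance
    exact isIso_of_reflects_iso _ (Over.forget S)
  exact IsPullback.of_iso_pullback ⟨w⟩ (asIso (pullback.lift a b w)) (pullback.lift_fst _ _ _)
    (pullback.lift_snd _ _ _)

/-- The descended scheme, and the map to it. -/
theorem exists_descent (hc : FqC c) (sq : IsPullback fst ((yon S).map s) f ((yon S).map c))
    (hQ : Mor2.IsQuasiAffine s.left) :
    ∃ (U : Over S) (q : U ⟶ Z) (r : V ⟶ U), IsPullback s r c q ∧
      ∀ (T : Over S) (v w : T ⟶ V), (yon S).map v ≫ fst = (yon S).map w ≫ fst ↔ v ≫ r = w ≫ r := by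
  have := hc.flat; have := hc.qc; have := hc.surj
  obtain ⟨U₀, ⟨e⟩⟩ := Groth.Agent.S1134.result c.left (dd sq) hQ
  let i : V.left ⟶ pullback c.left U₀.hom := e.inv.hom.left
  let i' : pullback c.left U₀.hom ⟶ V.left := e.hom.hom.left
  have hi1 : i ≫ pullback.fst c.left U₀.hom = s.left := Over.w e.inv.hom
  have hii' : i ≫ i' = 𝟙 _ := by
    have := congrArg (fun f => f.hom.left) e.inv_hom_id
    exact this
  have hi'i : i' ≫ i = 𝟙 _ := by
    have := congrArg (fun f => f.hom.left) e.hom_inv_id
    exact this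
  have hiso : IsIso i := ⟨i', hii', hi'i⟩
  let U : Over S := Over.mk (U₀.hom ≫ Z.hom)
  let q : U ⟶ Z := Over.homMk U₀.hom rfl
  have hr : (i ≫ pullback.snd c.left U₀.hom) ≫ U₀.hom = s.left ≫ c.left := by
    rw [Category.assoc, ← pullback.condition, ← Category.assoc, hi1]
  let r : V ⟶ U := Over.homMk (i ≫ pullback.snd c.left U₀.hom) (by
    change (i ≫ pullback.snd c.left U₀.hom) ≫ U₀.hom ≫ Z.hom = V.hom
    rw [← Category.assoc, hr, Category.assoc, Over.w, Over.w])
  have hpb : IsPullback s r c q := by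
    apply isPullback_of_left
    have hsq : IsPullback s.left (i ≫ pullback.snd c.left U₀.hom) c.left U₀.hom :=
      IsPullback.of_iso_pullback ⟨hr.symm⟩ (asIso i) hi1 rfl
    exact hsq
  -- points with the same image
  have key : ∀ (T : Over S) (v w : T ⟶ V), (yon S).map v ≫ fst = (yon S).map w ≫ fst → v ≫ r = w ≫ r := by
    intro T v w hvw
    have hE : Eqv fst v.left w.left := (eqv_iff v w).2 hvw
    have hb : (v.left ≫ s.left) ≫ c.left = (w.left ≫ s.left) ≫ c.left := by
      rw [Category.assoc, Category.assoc]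
      exact hE.base_eq sq
    let v₀ : Desc.Lifts (dd sq).obj (v.left ≫ s.left) := ⟨v.left, rfl⟩
    have hw₀ : ((dd sq).φ (v.left ≫ s.left) (w.left ≫ s.left) hb v₀).1 = w.left :=
      Eqv.eq sq ((phi_spec sq (v.left ≫ s.left) (w.left ≫ s.left) hb v₀).symm.trans hE)
        (phi sq (v.left ≫ s.left) (w.left ≫ s.left) hb v₀).2
    let v₁ : Desc.Lifts ((Desc.toDD c.left).obj U₀).obj (v.left ≫ s.left) := ⟨v.left ≫ i, by
      change (v.left ≫ i) ≫ pullback.fst c.left U₀.hom = _
      rw [Category.assoc, hi1]⟩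
    have h1 := e.inv.comm (v.left ≫ s.left) (w.left ≫ s.left) hb v₀ v₁ rfl
    rw [hw₀] at h1
    have h2 : (((Desc.toDD c.left).obj U₀).φ (v.left ≫ s.left) (w.left ≫ s.left) hb v₁).1 ≫
        pullback.snd c.left U₀.hom = v₁.1 ≫ pullback.snd c.left U₀.hom := pullback.lift_snd _ _ _
    apply Over.OverMorphism.ext
    change v.left ≫ i ≫ pullback.snd c.left U₀.hom = w.left ≫ i ≫ pullback.snd c.left U₀.hom
    have h3 : (w.left ≫ i) ≫ pullback.snd c.left U₀.hom = (v.left ≫ i) ≫ pullback.snd c.left U₀.hom := by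
      refine Eq.trans ?_ h2
      rw [h1]
      rfl
    rw [← Category.assoc, ← Category.assoc, h3]
  refine ⟨U, q, r, hpb, fun T v w => ⟨key T v w, fun h => ?_⟩⟩
  have hb : v ≫ s ≫ c = w ≫ s ≫ c := by
    rw [hpb.w, ← Category.assoc, h, Category.assoc]
  have hb' : v.left ≫ s.left ≫ c.left = (w.left ≫ s.left) ≫ c.left := by
    rw [Category.assoc]
    exact congrArg (fun f => f.left) hb
  have hw : ((yon S).map v ≫ fst) ≫ f = (yon S).map (w ≫ s) ≫ (yon S).map c := by
    rw [Category.assoc, sq.w, ← Functor.map_comp, ← Functor.map_comp, ← Functor.map_comp, hb, Category.assoc]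
  obtain ⟨w', hw'⟩ := (yon S).map_surjective (sq.lift _ _ hw)
  have h1 : (yon S).map w' ≫ fst = (yon S).map v ≫ fst := by rw [hw', sq.lift_fst]
  have h2 : w' ≫ s = w ≫ s := by
    apply (yon S).map_injective
    rw [Functor.map_comp, hw', sq.lift_snd]
  have h3 : w' = w := hpb.hom_ext h2 ((key T _ _ h1).trans h)
  rw [← h1, h3]

/-- The map `X ⟶ h_U` to the descended scheme. -/
theorem exists_map (hc : FqC c) (sq : IsPullback fst ((yon S).map s) f ((yon S).map c))
    {U : Over S} {q : U ⟶ Z} {r : V ⟶ U} (hpb : IsPullback s r c q)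
    (hr : ∀ (T : Over S) (v w : T ⟶ V), (yon S).map v ≫ fst = (yon S).map w ≫ fst → v ≫ r = w ≫ r) :
    ∃ m : X ⟶ (yon S).obj U, m ≫ (yon S).map q = f ∧ fst ≫ m = (yon S).map r := by
  -- the value on a section
  have key : ∀ (T : Over S) (ξ : (yon S).obj T ⟶ X), ∃! y : T ⟶ U, ∀ (R : Over S) (ρ : R ⟶ T) (v : R ⟶ V),
      (yon S).map v ≫ fst = (yon S).map ρ ≫ ξ → ρ ≫ y = v ≫ r := by
    intro T ξ
    obtain ⟨τ, hτ⟩ := (yon S).map_surjective (ξ ≫ f)
    let a : pullback τ c ⟶ T := pullback.fst τ c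
    let b : pullback τ c ⟶ Z' := pullback.snd τ c
    have hab : a ≫ τ = b ≫ c := pullback.condition
    have ha : FqC a := hc.pullback_fst τ
    have hw : ((yon S).map a ≫ ξ) ≫ f = (yon S).map b ≫ (yon S).map c := by
      rw [Category.assoc, ← hτ, ← Functor.map_comp, ← Functor.map_comp, hab]
    obtain ⟨v₀, hv₀⟩ := (yon S).map_surjective (sq.lift _ _ hw)
    have hv1 : (yon S).map v₀ ≫ fst = (yon S).map a ≫ ξ := by rw [hv₀, sq.lift_fst]
    have hv2 : v₀ ≫ s = b := by
      apply (yon S).map_injective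
      rw [Functor.map_comp, hv₀, sq.lift_snd]
    obtain ⟨y, hy, hy'⟩ := ha.desc (v₀ ≫ r) (fun R x x' hxx => by
      rw [← Category.assoc, ← Category.assoc]
      apply hr
      rw [Functor.map_comp, Functor.map_comp, Category.assoc, Category.assoc, hv1, ← Category.assoc,
        ← Category.assoc, ← Functor.map_comp, ← Functor.map_comp, hxx])
    refine ⟨y, fun R ρ v hv => ?_, fun y' h' => hy' y' (h' _ a v₀ hv1)⟩
    have hρ : ρ ≫ τ = (v ≫ s) ≫ c := by
      apply (yon S).map_injective
      rw [Functor.map_comp, hτ, ← Category.assoc, ← hv, Category.assoc, sq.w, Functor.map_comp, Functor.map_comp,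
        Category.assoc]
    let k : R ⟶ pullback τ c := pullback.lift ρ (v ≫ s) hρ
    have hk : k ≫ a = ρ := pullback.lift_fst _ _ _
    rw [← hk, Category.assoc]
    rw [hy, ← Category.assoc]
    apply hr
    rw [Functor.map_comp, Category.assoc, hv1, ← Category.assoc, ← Functor.map_comp, hk, hv]
  choose φ hφ hφ' using key
  obtain ⟨m, hm⟩ := exists_hom_of_yon (F := X) (G := (yon S).obj U) (fun T ξ => (yon S).map (φ T ξ))
    (fun T T' t ξ => by
      rw [← Functor.map_comp]
      congr 1
      symm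
      refine hφ' T' _ _ fun R ρ v hv => ?_
      rw [← Category.assoc]
      exact hφ T ξ R (ρ ≫ t) v (by rw [hv, Functor.map_comp, Category.assoc]))
  refine ⟨m, hom_ext fun T ξ => ?_, hom_ext fun T ξ => ?_⟩
  · rw [← Category.assoc, hm, ← Functor.map_comp]
    obtain ⟨τ, hτ⟩ := (yon S).map_surjective (ξ ≫ f)
    have ha : FqC (pullback.fst τ c) := hc.pullback_fst τ
    have hw : ((yon S).map (pullback.fst τ c) ≫ ξ) ≫ f = (yon S).map (pullback.snd τ c) ≫ (yon S).map c := by
      rw [Category.assoc, ← hτ, ← Functor.map_comp, ← Functor.map_comp, pullback.condition]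
    obtain ⟨v₀, hv₀⟩ := (yon S).map_surjective (sq.lift _ _ hw)
    have hv1 : (yon S).map v₀ ≫ fst = (yon S).map (pullback.fst τ c) ≫ ξ := by rw [hv₀, sq.lift_fst]
    have hv2 : v₀ ≫ s = pullback.snd τ c := by
      apply (yon S).map_injective
      rw [Functor.map_comp, hv₀, sq.lift_snd]
    have h1 := hφ T ξ _ (pullback.fst τ c) v₀ hv1
    have := ha.epi
    rw [← hτ]
    congr 1
    rw [← cancel_epi (pullback.fst τ c), ← Category.assoc, h1, Category.assoc, ← hpb.w, ← Category.assoc, hv2,
      pullback.condition]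
  · obtain ⟨v, rfl⟩ := (yon S).map_surjective ξ
    rw [← Category.assoc, hm, ← Functor.map_comp]
    congr 1
    have h1 := hφ T ((yon S).map v ≫ fst) T (𝟙 T) v (by rw [CategoryTheory.Functor.map_id, Category.id_comp])
    rwa [Category.id_comp] at h1

/-- The map to the descended scheme becomes an isomorphism after base change. -/
theorem isPullback_map (sq : IsPullback fst ((yon S).map s) f ((yon S).map c))
    {U : Over S} {q : U ⟶ Z} {r : V ⟶ U} (hpb : IsPullback s r c q) {m : X ⟶ (yon S).obj U}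
    (hm : m ≫ (yon S).map q = f) (hm' : fst ≫ m = (yon S).map r) :
    IsPullback fst (𝟙 _) m ((yon S).map r) := by
  refine isPullback_of_yon (by rw [Category.id_comp, hm']) fun T ξ b hb => ?_
  obtain ⟨v, rfl⟩ := (yon S).map_surjective b
  refine ⟨(yon S).map v, ⟨?_, Category.comp_id _⟩, fun b' hb' => by rw [← hb'.2, Category.comp_id]⟩
  have hw : ξ ≫ f = (yon S).map (v ≫ s) ≫ (yon S).map c := by
    rw [← hm, ← Category.assoc, hb, ← Functor.map_comp, ← Functor.map_comp, ← Functor.map_comp, Category.assoc,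
      Category.assoc, hpb.w]
  obtain ⟨v', hv'⟩ := (yon S).map_surjective (sq.lift _ _ hw)
  have h1 : (yon S).map v' ≫ fst = ξ := by rw [hv', sq.lift_fst]
  have h2 : v' ≫ s = v ≫ s := by
    apply (yon S).map_injective
    rw [Functor.map_comp, hv', sq.lift_snd]
  have h3 : v' ≫ r = v ≫ r := by
    apply (yon S).map_injective
    rw [Functor.map_comp, ← hm', ← Category.assoc, h1, hb, Functor.map_comp]
  rw [← h1, hpb.hom_ext h2 h3]

/-- **Fpqc descent of representability** for an algebraic space over a scheme. -/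
theorem exists_rep (hX : IsAlgSpace X) (hc : FqC c) (H : RepAt QAff f ((yon S).map c)) :
    ∃ (U : Over S) (q : U ⟶ Z) (m : X ⟶ (yon S).obj U), IsIso m ∧ m ≫ (yon S).map q = f ∧
      ∀ (V : Over S) (fst : (yon S).obj V ⟶ X) (s : V ⟶ Z'), IsPullback fst ((yon S).map s) f ((yon S).map c) →
        ∃ r : V ⟶ U, IsPullback s r c q := by
  obtain ⟨V, fst, s, sq, hQ⟩ := H
  obtain ⟨U, q, r, hpb, hr⟩ := exists_descent hc sq hQ
  obtain ⟨m, hm, hm'⟩ := exists_map hc sq hpb (fun T v w h => (hr T v w).1 h)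
  have hr' : FqC r := hc.of_isPullback hpb
  have hiso : IsIso m := hr'.isIso hX m (isPullback_map sq hpb hm hm')
  refine ⟨U, q, m, hiso, hm, fun V' fst' s' sq' => ?_⟩
  obtain ⟨r', hr''⟩ := (yon S).map_surjective (fst' ≫ m)
  refine ⟨r', ?_⟩
  have h1 : IsPullback ((yon S).map s') ((yon S).map r') ((yon S).map c) ((yon S).map q) := by
    refine IsPullback.of_iso sq'.flip (Iso.refl _) (Iso.refl _) (asIso m) (Iso.refl _) ?_ ?_ ?_ ?_
    · simp
    · simp [hr'']
    · simp
    · simp [hm]
  exact IsPullback.of_map (yon S) ((yon S).map_injective (by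
    rw [Functor.map_comp, Functor.map_comp]; exact h1.w)) h1

end K628.Core
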