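import Groth.Agent.AlgSp.K628.ZarRep
import Groth.Agent.AlgSp.K613.Diag
import Groth.Prelude.Def_AlgSpCov

/-!
# Fpqc refinements of families of morphisms of sheaves

* `QCov g` : every affine scheme over `Y` has a flat quasi-compact surjective affine covering `Z' ⟶ Z` and a Zariski covering of
  `Z'` by affine schemes which lift to some `Yi i`.
* `qCov_of_isFpqcCover`, `QCov.of_isPullback`.
* `QCov.prop` : descent of a property of a morphism of schemes over a sheaf.
* `repWith_of_qCov`, `repWith_diagonal_of_qCov` : descent of `RepWith P` for representable morphisms, and for diagonals.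
-/

set_option autoImplicit false
universe u

open CategoryTheory CategoryTheory.Limits AlgebraicGeometry Opposite

namespace K628.Cov

open AlgSp K613.Basic K613.Cover K613.Chart K613.Diag K628.Fqc K628.ZarRep

variable {S : Scheme.{u}} {X Y X' Y' F G : Sp S} {ι : Type u}

/-- the class of flat surjective quasi-compact morphisms -/
abbrev fpqc : MorphismProperty Scheme.{u} := @Surjective ⊓ @Flat ⊓ @QuasiCompact

/-- Families of morphisms of sheaves to `Y` to which affine schemes over `Y` lift locally for the fpqc topology. -/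
def QCov (Yi : ι → Sp S) (g : ∀ i, Yi i ⟶ Y) : Prop :=
  ∀ (Z : Over S), IsAffine Z.left → ∀ (h : (yon S).obj Z ⟶ Y),
    ∃ (Z' : Over S) (c : Z' ⟶ Z) (κ : Type u) (W : κ → Over S) (e : ∀ k, W k ⟶ Z'),
      IsAffine Z'.left ∧ FqC c ∧ (∀ k, IsAffine (W k).left) ∧ (∀ k, IsOpenImmersion (e k).left) ∧
        (∀ z : Z'.left, ∃ (k : κ) (w : (W k).left), (e k).left w = z) ∧
        ∀ k, ∃ (i : ι) (l : (yon S).obj (W k) ⟶ Yi i), l ≫ g i = (yon S).map (e k) ≫ (yon S).map c ≫ h

theorem qCov_of_lift {Yi : ι → Sp S} {g : ∀ i, Yi i ⟶ Y}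
    (hg : ∀ (Z : Over S), IsAffine Z.left → ∀ (h : (yon S).obj Z ⟶ Y),
      ∃ (m : ℕ) (W : Fin m → Over S) (c : ∀ j, W j ⟶ Z),
        (∀ j, IsAffine (W j).left) ∧ (∀ j, Flat (c j).left) ∧
        (∀ z : ↥Z.left, ∃ j, z ∈ Set.range (c j).left) ∧
        ∀ j, ∃ (i : ι) (l : (yon S).obj (W j) ⟶ Yi i), l ≫ g i = (yon S).map (c j) ≫ h) : QCov Yi g := by
  intro Z hZ h
  obtain ⟨m, W, c, hW, hfl, hsj, hl⟩ := hg Z hZ h
  let T : ULift.{u} (Fin m) → Scheme.{u} := fun j => (W j.down).left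
  have hT : ∀ j, IsAffine (T j) := fun j => hW j.down
  have hfl' : ∀ j : ULift.{u} (Fin m), Flat ((fun j : ULift.{u} (Fin m) => (c j.down).left) j) := fun j => hfl j.down
  let Z' : Over S := Over.mk (Sigma.desc (fun j : ULift.{u} (Fin m) => (W j.down).hom) : (∐ T) ⟶ S)
  let c' : Z' ⟶ Z := Over.homMk (Sigma.desc (fun j : ULift.{u} (Fin m) => (c j.down).left) : (∐ T) ⟶ Z.left) (by
    apply Sigma.hom_ext
    intro j
    change Sigma.ι T j ≫ Sigma.desc _ ≫ Z.hom = Sigma.ι T j ≫ Sigma.desc _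
    rw [Sigma.ι_desc_assoc, Sigma.ι_desc, Over.w])
  let e : ∀ j : ULift.{u} (Fin m), W j.down ⟶ Z' := fun j => Over.homMk (Sigma.ι T j) (Sigma.ι_desc _ _)
  have he : ∀ j, e j ≫ c' = c j.down := fun j => Over.OverMorphism.ext (Sigma.ι_desc _ _)
  have haff : IsAffine (∐ T) := inferInstance
  refine ⟨Z', c', ULift.{u} (Fin m), fun j => W j.down, e, haff, ⟨?_, ?_, ?_⟩, hT,
    fun j => inferInstanceAs (IsOpenImmersion (Sigma.ι T j)), ?_, ?_⟩
  · change Flat (Sigma.desc (fun j : ULift.{u} (Fin m) => (c j.down).left))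
    infer_instance
  · change QuasiCompact (Sigma.desc (fun j : ULift.{u} (Fin m) => (c j.down).left) : (∐ T) ⟶ Z.left)
    infer_instance
  · apply Surjective.sigmaDesc_of_union_range_eq_univ
    rw [Set.eq_univ_iff_forall]
    intro z
    obtain ⟨j, hj⟩ := hsj z
    exact Set.mem_iUnion.mpr ⟨⟨j⟩, hj⟩
  · intro z
    obtain ⟨j, y, hy⟩ := (sigmaOpenCover T).exists_eq z
    exact ⟨j, y, hy⟩
  · intro j
    obtain ⟨i, l, hl⟩ := hl j.down
    refine ⟨i, l, ?_⟩
    rw [← Category.assoc, ← Functor.map_comp, he, hl]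

theorem qCov_of_isFpqcCover {Yi : ι → Sp S} {g : ∀ i, Yi i ⟶ Y} (hg : IsFpqcCover Yi g) : QCov Yi g :=
  qCov_of_lift hg.2

theorem QCov.of_isPullback {Yi : ι → Sp S} {g : ∀ i, Yi i ⟶ Y} (hg : QCov Yi g) {f : X ⟶ Y} {Xi : ι → Sp S}
    {p : ∀ i, Xi i ⟶ Yi i} {q : ∀ i, Xi i ⟶ X} (sq : ∀ i, IsPullback (q i) (p i) f (g i)) : QCov Xi q := by
  intro Z hZ h
  obtain ⟨Z', c, κ, W, e, hZ', hc, hW, he, hcov, hl⟩ := hg Z hZ (h ≫ f)
  refine ⟨Z', c, κ, W, e, hZ', hc, hW, he, hcov, fun k => ?_⟩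
  obtain ⟨i, l, hl⟩ := hl k
  exact ⟨i, (sq i).lift ((yon S).map (e k) ≫ (yon S).map c ≫ h) l (by simp [hl]), (sq i).lift_fst _ _ _⟩

/-- A Zariski local property of a morphism of schemes over `S` on a family of open immersions covering the target. -/
theorem prop_of_openFam {P : MorphismProperty Scheme.{u}} [IsZariskiLocalAtTarget P] {E T : Over S} (e : E ⟶ T)
    {κ : Type u} (W : κ → Over S) (j : ∀ k, W k ⟶ T) (hj : ∀ k, IsOpenImmersion (j k).left)
    (hcov : ∀ t : T.left, ∃ (k : κ) (w : (W k).left), (j k).left w = t)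
    (H : ∀ (k : κ) (E' : Over S) (a : E' ⟶ E) (e' : E' ⟶ W k), IsPullback a e' e (j k) → P e'.left) : P e.left := by
  let 𝒰 : Scheme.OpenCover.{u} T.left :=
    { I₀ := κ
      X := fun k => (W k).left
      f := fun k => (j k).left
      mem₀ := by
        rw [Scheme.presieve₀_mem_precoverage_iff]
        exact ⟨fun t => hcov t, hj⟩ }
  refine IsZariskiLocalAtTarget.of_openCover 𝒰 fun k => ?_
  have h2 : IsPullback (pullback.fst e (j k)).left (pullback.snd e (j k)).left e.left (j k).left :=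
    (IsPullback.of_hasPullback e (j k)).map (Over.forget S)
  change P (pullback.snd e.left (j k).left)
  rw [← P.cancel_left_of_respectsIso h2.isoPullback.hom, h2.isoPullback_hom_snd]
  exact H k _ _ _ (IsPullback.of_hasPullback e (j k))

theorem prop_of_affine {P : MorphismProperty Scheme.{u}} [IsZariskiLocalAtTarget P] {E T : Over S} (e : E ⟶ T)
    (H : ∀ (Z : Over S) (c : Z ⟶ T) (E' : Over S) (a : E' ⟶ E) (e' : E' ⟶ Z), IsAffine Z.left → IsOpenImmersion c.left →
      IsPullback a e' e c → P e'.left) : P e.left := by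
  refine prop_of_openFam e (κ := T.left.affineOpens) (fun W => Over.mk (W.1.ι ≫ T.hom)) (fun W => Over.homMk W.1.ι rfl)
    (fun W => inferInstanceAs (IsOpenImmersion W.1.ι)) (fun u => ?_)
    (fun W _ _ _ sq => H _ _ _ _ _ W.2 (inferInstanceAs (IsOpenImmersion W.1.ι)) sq)
  obtain ⟨_, ⟨W, hW, rfl⟩, hu, -⟩ := T.left.isBasis_affineOpens.exists_subset_of_mem_open (Set.mem_univ u) isOpen_univ
  exact ⟨⟨W, hW⟩, ⟨u, hu⟩, rfl⟩

/-- **Descent of properties of morphisms of schemes** along fpqc refinements. -/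
theorem QCov.prop {Yi : ι → Sp S} {g : ∀ i, Yi i ⟶ Y} (hg : QCov Yi g) {T E : Over S} (h : (yon S).obj T ⟶ Y)
    (e : E ⟶ T) (P : MorphismProperty Scheme.{u}) [IsZariskiLocalAtTarget P] [P.DescendsAlong fpqc]
    (H : ∀ (i : ι) (W : Over S) (w : W ⟶ T) (l : (yon S).obj W ⟶ Yi i), IsAffine W.left →
      l ≫ g i = (yon S).map w ≫ h → ∀ (E' : Over S) (k : E' ⟶ E) (e' : E' ⟶ W), IsPullback k e' e w → P e'.left) :
    P e.left := by
  refine prop_of_affine e fun Z c E' a e' hZ _ sq => ?_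
  obtain ⟨Z', c', κ, W, j, hZ', hc', hW, hj, hcov, hl⟩ := hg Z hZ ((yon S).map c ≫ h)
  have sq' := IsPullback.of_hasPullback e' c'
  refine MorphismProperty.of_isPullback_of_descendsAlong (P := P) (Q := fpqc) (sq'.map (Over.forget S)).flip hc'.mem ?_
  refine prop_of_openFam _ W j hj hcov fun k E'' a'' e'' sq'' => ?_
  obtain ⟨i, l, hl⟩ := hl k
  refine H i (W k) (j k ≫ c' ≫ c) l (hW k) ?_ E'' (a'' ≫ pullback.fst e' c' ≫ a) e'' ?_
  · rw [hl]
    simp
  · have h1 := (sq''.paste_horiz (sq'.paste_horiz sq))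
    exact h1

/-- Descent of `RepWith P` for representable morphisms. -/
theorem repWith_of_qCov {Yi : ι → Sp S} {g : ∀ i, Yi i ⟶ Y} (hg : QCov Yi g) {f : X ⟶ Y} (hf : Representable f)
    {Xi : ι → Sp S} {p : ∀ i, Xi i ⟶ Yi i} {q : ∀ i, Xi i ⟶ X} (sq : ∀ i, IsPullback (q i) (p i) f (g i))
    (P : MorphismProperty Scheme.{u}) [IsZariskiLocalAtTarget P] [P.DescendsAlong fpqc]
    (hp : ∀ i, RepWith P (p i)) : RepWith P f := by
  refine ⟨hf, fun T V h fst snd sqV => hg.prop h snd P fun i W w l _ hl V' k e' sq' => ?_⟩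
  have h1 : IsPullback ((yon S).map k ≫ fst) ((yon S).map e') f (l ≫ g i) := by
    rw [hl]
    exact (sq'.map (yon S)).paste_horiz sqV
  have hw : ((yon S).map k ≫ fst) ≫ f = ((yon S).map e' ≫ l) ≫ g i := by rw [h1.w, Category.assoc]
  have h2 : IsPullback ((sq i).lift _ _ hw) ((yon S).map e') (p i) l :=
    IsPullback.of_right (by rw [(sq i).lift_fst]; exact h1) ((sq i).lift_snd _ _ hw) (sq i)
  exact (hp i).2 _ _ _ h2

/-- Descent of properties of the diagonal. -/
theorem repWith_diagonal_of_qCov {Yi : ι → Sp S} {g : ∀ i, Yi i ⟶ Y} (hg : QCov Yi g)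
    (hX : Representable (Limits.diag X)) {f : X ⟶ Y}
    {Xi : ι → Sp S} {p : ∀ i, Xi i ⟶ Yi i} {q : ∀ i, Xi i ⟶ X} (sq : ∀ i, IsPullback (q i) (p i) f (g i))
    (P : MorphismProperty Scheme.{u}) [IsZariskiLocalAtTarget P] [P.IsStableUnderBaseChange] [P.DescendsAlong fpqc]
    (hp : ∀ i, RepWith P (pullback.diagonal (p i))) : RepWith P (pullback.diagonal f) := by
  rw [repWith_diagonal_iff]
  intro T a b hab
  rw [representable_diag_iff] at hX
  obtain ⟨E, e, he⟩ := hX T a b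
  refine ⟨E, e, he, hg.prop (a ≫ f) e P fun i W w l _ hl E' k e' sq' => ?_⟩
  have hE' := he.of_pullback sq'
  have hwa : ((yon S).map w ≫ a) ≫ f = l ≫ g i := by rw [hl, Category.assoc]
  have hwb : ((yon S).map w ≫ b) ≫ f = l ≫ g i := by rw [hl, Category.assoc, hab]
  have hEq : IsEq ((sq i).lift _ _ hwa) ((sq i).lift _ _ hwb) e' := by
    refine ⟨?_, fun R r hr => ?_⟩
    · apply (sq i).hom_ext
      · rw [Category.assoc, Category.assoc, (sq i).lift_fst, (sq i).lift_fst]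
        exact hE'.w
      · rw [Category.assoc, Category.assoc, (sq i).lift_snd, (sq i).lift_snd]
    · refine hE'.lift R r ?_
      have := congrArg (· ≫ q i) hr
      simpa using this
  refine prop_of_isEq (hp i) ?_ hEq
  rw [(sq i).lift_snd, (sq i).lift_snd]

end K628.Cov
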