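import Groth.Agent.AlgSp.K628.Core
import Groth.Agent.AlgSp.K628.QCov

/-!
# Fpqc coverings of algebraic spaces and descent of representability along them

* `exists_single` : reduction of an fpqc covering to one flat surjective morphism of affine schemes.
* `repAt_of_qCov`, `repAt_of_cover` : **main theorem**, if all base changes `X_i ⟶ Y_i` of `f : X ⟶ Y` along an fpqc covering are,
  over affine schemes, quasi-affine with a property `P` descending along fpqc morphisms, so is `f`.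
-/

set_option autoImplicit false
universe u

open CategoryTheory CategoryTheory.Limits AlgebraicGeometry Opposite

namespace K628.Cover

open AlgSp K613.Basic K613.Cover K613.Chart K628.Fqc K628.ZarRep K628.Core K628.Cov Groth.Agent.Ega2.QuasiAffine

variable {S : Scheme.{u}} {X Y X' Y' F G : Sp S}

theorem RepAt.mono {P Q : MorphismProperty Scheme.{u}} (hPQ : P ≤ Q) {f : X ⟶ Y} {U : Over S}
    {h : (yon S).obj U ⟶ Y} (H : RepAt P f h) : RepAt Q f h := by
  obtain ⟨V, fst, snd, sq, hP⟩ := H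
  exact ⟨V, fst, snd, sq, hPQ _ hP⟩

/-- Represented base changes of a base change. -/
theorem RepAt.of_base {P : MorphismProperty Scheme.{u}} {f : X ⟶ Y} {g : Y' ⟶ Y} {q : X' ⟶ X} {p : X' ⟶ Y'}
    (sq : IsPullback q p f g) {U : Over S} {l : (yon S).obj U ⟶ Y'} (H : RepAt P p l) : RepAt P f (l ≫ g) := by
  obtain ⟨V, fst, snd, sq', hP⟩ := H
  exact ⟨V, fst ≫ q, snd, sq'.paste_horiz sq, hP⟩

theorem RepAt.base {P : MorphismProperty Scheme.{u}} {f : X ⟶ Y} {g : Y' ⟶ Y} {q : X' ⟶ X} {p : X' ⟶ Y'}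
    (sq : IsPullback q p f g) {U : Over S} {l : (yon S).obj U ⟶ Y'} (H : RepAt P f (l ≫ g)) : RepAt P p l := by
  obtain ⟨V, fst, snd, sq', hP⟩ := H
  have hw : fst ≫ f = ((yon S).map snd ≫ l) ≫ g := by rw [sq'.w, Category.assoc]
  refine ⟨V, sq.lift _ _ hw, snd, ?_, hP⟩
  exact IsPullback.of_right (by rw [sq.lift_fst]; exact sq') (sq.lift_snd _ _ hw) sq

/-- Base change of a represented base change. -/
theorem RepAt.comp {P : MorphismProperty Scheme.{u}} [P.IsStableUnderBaseChange] {f : X ⟶ Y} {U U' : Over S}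
    {h : (yon S).obj U ⟶ Y} (H : RepAt P f h) (b : U' ⟶ U) : RepAt P f ((yon S).map b ≫ h) := by
  obtain ⟨V, fst, snd, sq, hP⟩ := H
  have sq2 := (IsPullback.of_hasPullback snd b).map (yon S)
  refine ⟨pullback snd b, (yon S).map (pullback.fst snd b) ≫ fst, pullback.snd snd b, ?_, ?_⟩
  · exact sq2.paste_horiz sq
  · exact P.of_isPullback ((IsPullback.of_hasPullback snd b).map (Over.forget S)) hP

/-- Reduction of an fpqc covering to one flat surjective morphism of affine schemes. -/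
theorem exists_single {ι : Type u} {Yi : ι → Sp S} {g : ∀ i, Yi i ⟶ Y} (hg : QCov Yi g) (f : X ⟶ Y)
    {Xi : ι → Sp S} {p : ∀ i, Xi i ⟶ Yi i} {q : ∀ i, Xi i ⟶ X} (sq : ∀ i, IsPullback (q i) (p i) f (g i))
    (P : MorphismProperty Scheme.{u}) [IsZariskiLocalAtTarget P]
    (hP : ∀ (i : ι) (W : Over S), IsAffine W.left → ∀ l : (yon S).obj W ⟶ Yi i, RepAt P (p i) l)
    {Z : Over S} (hZ : IsAffine Z.left) (h : (yon S).obj Z ⟶ Y) :
    ∃ (Z' : Over S) (c : Z' ⟶ Z), IsAffine Z'.left ∧ FqC c ∧ RepAt P f ((yon S).map c ≫ h) := by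
  obtain ⟨Z', c, κ, W, e, hZ', hc, hW, he, hcov, hl⟩ := hg Z hZ h
  refine ⟨Z', c, hZ', hc, RepAt.of_cover W e he hcov fun k => ?_⟩
  obtain ⟨i, l, hl⟩ := hl k
  rw [← hl]
  exact RepAt.of_base (sq _) (hP _ _ (hW _) _)

/-- **Fpqc descent of representability**, single covering. -/
theorem repAt_of_single (hX : IsAlgSpace X) (hY : IsAlgSpace Y) (f : X ⟶ Y)
    (P : MorphismProperty Scheme.{u}) [P.DescendsAlong fpqc] (hPQ : P ≤ QAff)
    {Z Z' : Over S} (h : (yon S).obj Z ⟶ Y) (c : Z' ⟶ Z) (hc : FqC c) (H : RepAt P f ((yon S).map c ≫ h)) :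
    RepAt P f h := by
  have hXZ : IsAlgSpace (pullback f h) := isAlgSpace_pullback hX (IsAlgSpace.yon_obj Z) hY f h
  have sq := IsPullback.of_hasPullback f h
  obtain ⟨V, fst, s, sqV, hs⟩ := RepAt.base sq H
  obtain ⟨U, q, m, hm, hmq, hU⟩ := exists_rep hXZ hc ⟨V, fst, s, sqV, hPQ _ hs⟩
  obtain ⟨r, hr⟩ := hU V fst s sqV
  refine ⟨U, inv m ≫ pullback.fst f h, q, ?_, ?_⟩
  · refine IsPullback.of_iso sq (asIso m) (Iso.refl _) (Iso.refl _) (Iso.refl _) ?_ ?_ ?_ ?_
    · simp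
    · simp [hmq]
    · simp
    · simp
  · exact MorphismProperty.of_isPullback_of_descendsAlong (P := P) (Q := fpqc) (hr.map (Over.forget S)) hc.mem hs

/-- **Fpqc descent of representability** along a covering of algebraic spaces. -/
theorem repAt_of_qCov {ι : Type u} {Yi : ι → Sp S} {g : ∀ i, Yi i ⟶ Y} (hg : QCov Yi g)
    (hX : IsAlgSpace X) (hY : IsAlgSpace Y) (f : X ⟶ Y)
    {Xi : ι → Sp S} {p : ∀ i, Xi i ⟶ Yi i} {q : ∀ i, Xi i ⟶ X} (sq : ∀ i, IsPullback (q i) (p i) f (g i))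
    (P : MorphismProperty Scheme.{u}) [IsZariskiLocalAtTarget P] [P.DescendsAlong fpqc] (hPQ : P ≤ QAff)
    (hP : ∀ (i : ι) (W : Over S), IsAffine W.left → ∀ l : (yon S).obj W ⟶ Yi i, RepAt P (p i) l)
    {Z : Over S} (hZ : IsAffine Z.left) (h : (yon S).obj Z ⟶ Y) : RepAt P f h := by
  obtain ⟨Z', c, -, hc, H⟩ := exists_single hg f sq P hP hZ h
  exact repAt_of_single hX hY f P hPQ h c hc H

/-- **Fpqc descent of representability** along a covering of algebraic spaces. -/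
theorem repAt_of_cover {ι : Type u} {Yi : ι → Sp S} {g : ∀ i, Yi i ⟶ Y} (hg : IsFpqcCover Yi g)
    (hX : IsAlgSpace X) (hY : IsAlgSpace Y) (f : X ⟶ Y)
    {Xi : ι → Sp S} {p : ∀ i, Xi i ⟶ Yi i} {q : ∀ i, Xi i ⟶ X} (sq : ∀ i, IsPullback (q i) (p i) f (g i))
    (P : MorphismProperty Scheme.{u}) [IsZariskiLocalAtTarget P] [P.DescendsAlong fpqc] (hPQ : P ≤ QAff)
    (hP : ∀ (i : ι) (W : Over S), IsAffine W.left → ∀ l : (yon S).obj W ⟶ Yi i, RepAt P (p i) l)
    {Z : Over S} (hZ : IsAffine Z.left) (h : (yon S).obj Z ⟶ Y) : RepAt P f h :=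
  repAt_of_qCov (qCov_of_isFpqcCover hg) hX hY f sq P hPQ hP hZ h

/-- **Fpqc descent of `RepWith P`** for a property `P` of quasi-affine morphisms, including representability. -/
theorem repWith_of_qAff {ι : Type u} {Yi : ι → Sp S} {g : ∀ i, Yi i ⟶ Y} (hg : QCov Yi g)
    (hX : IsAlgSpace X) (hY : IsAlgSpace Y) (f : X ⟶ Y)
    {Xi : ι → Sp S} {p : ∀ i, Xi i ⟶ Yi i} {q : ∀ i, Xi i ⟶ X} (sq : ∀ i, IsPullback (q i) (p i) f (g i))
    (P : MorphismProperty Scheme.{u}) [IsZariskiLocalAtTarget P] [P.DescendsAlong fpqc] (hPQ : P ≤ QAff)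
    (hp : ∀ i, RepWith P (p i)) : RepWith P f :=
  repWith_of_affine fun Z hZ h => repAt_of_qCov hg hX hY f sq P hPQ
      (fun i W _ l => repAt_of_repWith (hp i) l) hZ h

/-- fpqc locality on the base of `RepWith P` for a property `P` of quasi-affine morphisms. -/
theorem isLocalOnBase_repWith (P : MorphismProperty Scheme.{u}) [IsZariskiLocalAtTarget P]
    [P.DescendsAlong fpqc] (hPQ : P ≤ QAff) : IsLocalOnBase (IsFpqcCover (S := S)) (RepWith P) := by
  intro ι Y Yi g hY _ hg X f hX Xi p q _ sq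
  constructor
  · intro hf i
    exact MorphismProperty.of_isPullback (sq i) hf
  · intro hp
    exact repWith_of_affine fun Z hZ h => repAt_of_cover hg hX hY f sq P hPQ
      (fun i W _ l => repAt_of_repWith (hp i) l) hZ h

/-- fpqc locality on the base of properties tested on affine schemes. -/
theorem isLocalOnBase_affine (R : MorphismProperty (Sp S)) (P : MorphismProperty Scheme.{u}) [IsZariskiLocalAtTarget P]
    [P.DescendsAlong fpqc] (hPQ : P ≤ QAff)
    (hR : ∀ ⦃X Y : Sp S⦄ (f : X ⟶ Y), R f ↔ ∀ Z : Over S, IsAffine Z.left → ∀ h : (yon S).obj Z ⟶ Y, RepAt P f h) :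
    IsLocalOnBase (IsFpqcCover (S := S)) R := by
  intro ι Y Yi g hY _ hg X f hX Xi p q _ sq
  constructor
  · intro hf i
    rw [hR] at hf ⊢
    exact fun Z hZ h => RepAt.base (sq i) (hf Z hZ _)
  · intro hp
    rw [hR]
    exact fun Z hZ h => repAt_of_cover hg hX hY f sq P hPQ (fun i W hW l => (hR _).1 (hp i) W hW l) hZ h

end K628.Cover
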