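import Groth.Agent.AlgSp.K628.ZarRep
import Groth.Prelude.Def_Desc

/-!
# The descent datum attached to a sheaf over `h_Z` whose base change along `Z' ⟶ Z` is a scheme
-/

set_option autoImplicit false
universe u

open CategoryTheory CategoryTheory.Limits AlgebraicGeometry Opposite

namespace K628.DD

open AlgSp K613.Basic K613.Cover K628.Fqc K628.ZarRep

variable {S : Scheme.{u}} {X : Sp S} {Z Z' V : Over S} {f : X ⟶ (yon S).obj Z} {c : Z' ⟶ Z}
  {fst : (yon S).obj V ⟶ X} {s : V ⟶ Z'}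

section eqv

/-- Two points of `V` with the same image in `X`. -/
def Eqv (fst : (yon S).obj V ⟶ X) {T : Scheme.{u}} (v w : T ⟶ V.left) : Prop :=
  ∃ (t : T ⟶ S) (hv : v ≫ V.hom = t) (hw : w ≫ V.hom = t),
    (yon S).map (Over.homMk v hv : Over.mk t ⟶ V) ≫ fst = (yon S).map (Over.homMk w hw : Over.mk t ⟶ V) ≫ fst

theorem Eqv.refl {T : Scheme.{u}} (v : T ⟶ V.left) : Eqv fst v v := ⟨_, rfl, rfl, rfl⟩

theorem Eqv.symm {T : Scheme.{u}} {v w : T ⟶ V.left} (h : Eqv fst v w) : Eqv fst w v := by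
  obtain ⟨t, hv, hw, h⟩ := h
  exact ⟨t, hw, hv, h.symm⟩

theorem Eqv.trans {T : Scheme.{u}} {v w x : T ⟶ V.left} (h : Eqv fst v w) (h' : Eqv fst w x) : Eqv fst v x := by
  obtain ⟨t, hv, hw, h⟩ := h
  obtain ⟨t', hw', hx, h'⟩ := h'
  obtain rfl : t = t' := hw.symm.trans hw'
  exact ⟨t, hv, hx, h.trans h'⟩

theorem eqv_iff {T : Over S} (v w : T ⟶ V) :
    Eqv fst v.left w.left ↔ (yon S).map v ≫ fst = (yon S).map w ≫ fst := by
  have e : ∀ v : T ⟶ V, (Over.homMk v.left (Over.w v) : Over.mk T.hom ⟶ V) = v := fun v => rfl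
  constructor
  · rintro ⟨t, hv, hw, h⟩
    obtain rfl : T.hom = t := (Over.w v).symm.trans hv
    exact h
  · intro h
    exact ⟨T.hom, Over.w v, Over.w w, h⟩

theorem Eqv.precomp {T T' : Scheme.{u}} (g : T' ⟶ T) {v w : T ⟶ V.left} (h : Eqv fst v w) :
    Eqv fst (g ≫ v) (g ≫ w) := by
  obtain ⟨t, hv, hw, h⟩ := h
  let g' : Over.mk (g ≫ t) ⟶ Over.mk t := Over.homMk g rfl
  have : (yon S).map (g' ≫ Over.homMk v hv) ≫ fst = (yon S).map (g' ≫ Over.homMk w hw) ≫ fst := by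
    rw [Functor.map_comp, Functor.map_comp, Category.assoc, Category.assoc, h]
  exact (eqv_iff _ _).2 this

variable (sq : IsPullback fst ((yon S).map s) f ((yon S).map c))

include sq in
theorem Eqv.base_eq {T : Scheme.{u}} {v w : T ⟶ V.left} (h : Eqv fst v w) :
    v ≫ s.left ≫ c.left = w ≫ s.left ≫ c.left := by
  obtain ⟨t, hv, hw, h⟩ := h
  have h1 := congrArg (· ≫ f) h
  rw [Category.assoc, sq.w, Category.assoc, sq.w, ← Functor.map_comp, ← Functor.map_comp, ← Functor.map_comp] at h1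
  exact congrArg (fun f => f.left) ((yon S).map_injective h1)

include sq in
theorem Eqv.eq {T : Scheme.{u}} {v w : T ⟶ V.left} (h : Eqv fst v w) (h' : v ≫ s.left = w ≫ s.left) : v = w := by
  obtain ⟨t, hv, hw, h⟩ := h
  have h1 : (yon S).map (Over.homMk v hv : Over.mk t ⟶ V) = (yon S).map (Over.homMk w hw) := by
    apply sq.hom_ext h
    rw [← Functor.map_comp, ← Functor.map_comp]
    congr 1
    exact Over.OverMorphism.ext h'
  exact congrArg (fun f => f.left) ((yon S).map_injective h1)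

include sq in
theorem exists_eqv {T : Scheme.{u}} (v : T ⟶ V.left) (x : T ⟶ Z'.left) (h : v ≫ s.left ≫ c.left = x ≫ c.left) :
    ∃ w : T ⟶ V.left, Eqv fst v w ∧ w ≫ s.left = x := by
  let T₀ : Over S := Over.mk (v ≫ V.hom)
  let v' : T₀ ⟶ V := Over.homMk v rfl
  have hx : x ≫ Z'.hom = v ≫ V.hom := by
    rw [← Over.w c, ← Category.assoc, ← h, Category.assoc, Category.assoc, Over.w c, Over.w s]
  let x' : T₀ ⟶ Z' := Over.homMk x hx
  have hw : ((yon S).map v' ≫ fst) ≫ f = (yon S).map x' ≫ (yon S).map c := by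
    rw [Category.assoc, sq.w, ← Functor.map_comp, ← Functor.map_comp, ← Functor.map_comp]
    congr 1
    exact Over.OverMorphism.ext h
  obtain ⟨w, hw'⟩ := (yon S).map_surjective (sq.lift _ _ hw)
  refine ⟨w.left, ?_, ?_⟩
  · change Eqv fst v'.left w.left
    rw [eqv_iff, hw', sq.lift_fst]
  · have : w ≫ s = x' := by
      apply (yon S).map_injective
      rw [Functor.map_comp, hw', sq.lift_snd]
    exact congrArg (fun f => f.left) this

end eqv

section dd

variable (sq : IsPullback fst ((yon S).map s) f ((yon S).map c))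

include sq in
theorem exists_phi {T : Scheme.{u}} (x₀ x₁ : T ⟶ Z'.left) (h : x₀ ≫ c.left = x₁ ≫ c.left)
    (v : Desc.Lifts (Over.mk s.left) x₀) : ∃ w : Desc.Lifts (Over.mk s.left) x₁, Eqv fst v.1 w.1 := by
  obtain ⟨v, hv⟩ := v
  change v ≫ s.left = x₀ at hv
  obtain ⟨w, hw, hw'⟩ := exists_eqv sq v x₁ (by rw [← Category.assoc, hv, h])
  exact ⟨⟨w, hw'⟩, hw⟩

/-- transport of points -/
noncomputable def phi {T : Scheme.{u}} (x₀ x₁ : T ⟶ Z'.left) (h : x₀ ≫ c.left = x₁ ≫ c.left)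
    (v : Desc.Lifts (Over.mk s.left) x₀) : Desc.Lifts (Over.mk s.left) x₁ := (exists_phi sq x₀ x₁ h v).choose

theorem phi_spec {T : Scheme.{u}} (x₀ x₁ : T ⟶ Z'.left) (h : x₀ ≫ c.left = x₁ ≫ c.left)
    (v : Desc.Lifts (Over.mk s.left) x₀) : Eqv fst v.1 (phi sq x₀ x₁ h v).1 := (exists_phi sq x₀ x₁ h v).choose_spec

include sq in
theorem lifts_eq {T : Scheme.{u}} {x : T ⟶ Z'.left} (v w : Desc.Lifts (Over.mk s.left) x) (h : Eqv fst v.1 w.1) :
    v = w := Subtype.ext (Eqv.eq sq h (v.2.trans w.2.symm))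

/-- The descent datum. -/
noncomputable def dd : Desc.SchDD c.left where
  obj := Over.mk s.left
  φ T x₀ x₁ h :=
    { toFun := phi sq x₀ x₁ h
      invFun := phi sq x₁ x₀ h.symm
      left_inv := fun v => lifts_eq sq _ _ ((phi_spec sq x₀ x₁ h v).trans (phi_spec sq x₁ x₀ h.symm _)).symm
      right_inv := fun v => lifts_eq sq _ _ ((phi_spec sq x₁ x₀ h.symm v).trans (phi_spec sq x₀ x₁ h _)).symm }
  φ_natural T T' g x₀ x₁ h h' v v' hv' := by
    have h1 : Eqv fst v'.1 (g ≫ (phi sq x₀ x₁ h v).1) := by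
      rw [hv']
      exact (phi_spec sq x₀ x₁ h v).precomp g
    refine Eqv.eq sq ((phi_spec sq (g ≫ x₀) (g ≫ x₁) h' v').symm.trans h1) ?_
    exact (phi sq (g ≫ x₀) (g ≫ x₁) h' v').2.trans
      ((congrArg (g ≫ ·) (phi sq x₀ x₁ h v).2).symm.trans (Category.assoc _ _ _).symm)
  φ_self T x v := lifts_eq sq _ _ (phi_spec sq x x rfl v).symm
  φ_comp T x₀ x₁ x₂ h₀₁ h₁₂ v := lifts_eq sq _ _
    (((phi_spec sq x₀ x₁ h₀₁ v).trans (phi_spec sq x₁ x₂ h₁₂ _)).symm.trans (phi_spec sq x₀ x₂ (h₀₁.trans h₁₂) v))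

end dd

end K628.DD
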