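import Groth.Agent.AlgSp.K613.Cover
import Mathlib.AlgebraicGeometry.Sites.Fpqc
import Mathlib.AlgebraicGeometry.Morphisms.LocalFlatDescent

/-!
# Fpqc descent for sheaves with representable diagonal, part 1

* `FqC c` : `c` is flat, surjective and quasi-compact.
* `homOfYon` : a morphism of sheaves from a compatible family of maps on `h_T`-points.
* `FqC.desc` : gluing of morphisms to a scheme along `c`.
* `FqC.separated` : sections of a sheaf with representable diagonal which agree after `c` agree.
* `isIso_of_fqC` : a morphism `m : X ⟶ h_U` from an algebraic space which becomes an isomorphism after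
  base change along `FqC r` is an isomorphism.
-/

set_option autoImplicit false
universe u

open CategoryTheory CategoryTheory.Limits AlgebraicGeometry Opposite

namespace K628.Fqc

open AlgSp K613.Basic K613.Cover

variable {S : Scheme.{u}} {F G H P Q X Y : Sp S}

/-- `c` is a flat surjective quasi-compact morphism of schemes over `S`. -/
structure FqC {T T' : Over S} (c : T' ⟶ T) : Prop where
  flat : Flat c.left
  qc : QuasiCompact c.left
  surj : Surjective c.left

theorem FqC.mem {T T' : Over S} {c : T' ⟶ T} (h : FqC c) :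
    (@Surjective ⊓ @Flat ⊓ @QuasiCompact : MorphismProperty Scheme.{u}) c.left := ⟨⟨h.surj, h.flat⟩, h.qc⟩

theorem FqC.comp {T T' T'' : Over S} {c : T' ⟶ T} {d : T'' ⟶ T'} (h : FqC c) (h' : FqC d) : FqC (d ≫ c) := by
  have := h.flat; have := h.qc; have := h.surj; have := h'.flat; have := h'.qc; have := h'.surj
  exact ⟨inferInstanceAs (Flat (d.left ≫ c.left)), inferInstanceAs (QuasiCompact (d.left ≫ c.left)),
    inferInstanceAs (Surjective (d.left ≫ c.left))⟩

theorem FqC.of_isPullback {T T' Z Z' : Over S} {c : T' ⟶ T} {d : Z' ⟶ Z} {a : Z' ⟶ T'} {b : Z ⟶ T}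
    (sq : IsPullback a d c b) (h : FqC c) : FqC d := by
  have := h.flat; have := h.qc; have := h.surj
  have sq' := sq.map (Over.forget S)
  exact ⟨MorphismProperty.of_isPullback (P := @Flat) sq' ‹_›,
    MorphismProperty.of_isPullback (P := @QuasiCompact) sq' ‹_›,
    MorphismProperty.of_isPullback (P := @Surjective) sq' ‹_›⟩

theorem FqC.pullback_fst {T T' Z : Over S} {c : T' ⟶ T} (h : FqC c) (b : Z ⟶ T) : FqC (pullback.fst b c) :=
  h.of_isPullback (IsPullback.of_hasPullback b c).flip

/-- Gluing of morphisms to a scheme along a flat surjective quasi-compact morphism. -/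
theorem FqC.desc {T T' V : Over S} {c : T' ⟶ T} (h : FqC c) (x : T' ⟶ V)
    (hx : ∀ (R : Over S) (a b : R ⟶ T'), a ≫ c = b ≫ c → a ≫ x = b ≫ x) : ∃! y : T ⟶ V, c ≫ y = x := by
  have := h.flat; have := h.qc; have := h.surj
  have hx' : ∀ {R : Scheme.{u}} (a b : R ⟶ T'.left), a ≫ c.left = b ≫ c.left → a ≫ x.left = b ≫ x.left := by
    intro R a b hab
    have hb : b ≫ T'.hom = a ≫ T'.hom := by
      rw [← Over.w c, ← Category.assoc, ← hab, Category.assoc]
    exact congrArg (fun f => f.left) (hx (Over.mk (a ≫ T'.hom)) (Over.homMk a rfl) (Over.homMk b hb)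
      (Over.OverMorphism.ext hab))
  have hfac : c.left ≫ EffectiveEpi.desc c.left x.left hx' = x.left := EffectiveEpi.fac _ _ _
  refine ⟨Over.homMk (EffectiveEpi.desc c.left x.left hx') ?_, ?_, ?_⟩
  · rw [← cancel_epi c.left, ← Category.assoc, hfac, Over.w, Over.w]
  · exact Over.OverMorphism.ext hfac
  · intro y hy
    apply Over.OverMorphism.ext
    rw [← cancel_epi c.left]
    exact (congrArg (fun f => f.left) hy).trans hfac.symm

theorem FqC.epi {T T' : Over S} {c : T' ⟶ T} (h : FqC c) : Epi c := by
  refine ⟨fun {Z} a b hab => ?_⟩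
  obtain ⟨y, -, hy⟩ := h.desc (c ≫ a) (fun R r s hrs => by rw [← Category.assoc, hrs, Category.assoc])
  exact (hy a rfl).trans (hy b hab.symm).symm

/-- A morphism of sheaves from a compatible family of maps on points with values in schemes. -/
theorem exists_hom_of_yon (φ : ∀ T : Over S, ((yon S).obj T ⟶ F) → ((yon S).obj T ⟶ G))
    (hφ : ∀ (T T' : Over S) (t : T' ⟶ T) (g : (yon S).obj T ⟶ F), φ T' ((yon S).map t ≫ g) = (yon S).map t ≫ φ T g) :
    ∃ m : F ⟶ G, ∀ (T : Over S) (g : (yon S).obj T ⟶ F), g ≫ m = φ T g := by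
  let y : F ⟶ G := ⟨{
    app := fun T => ↾fun s => (J S).uliftYonedaEquiv (φ T.unop ((J S).uliftYonedaEquiv.symm s))
    naturality := fun {T T'} t => by
      refine ConcreteCategory.hom_ext _ _ fun s => ?_
      change (J S).uliftYonedaEquiv (φ T'.unop ((J S).uliftYonedaEquiv.symm (F.obj.map t s))) =
        G.obj.map t ((J S).uliftYonedaEquiv (φ T.unop ((J S).uliftYonedaEquiv.symm s)))
      have h1 : (J S).uliftYonedaEquiv.symm (F.obj.map t s) = (yon S).map t.unop ≫ (J S).uliftYonedaEquiv.symm s :=
        GrothendieckTopology.uliftYonedaEquiv_symm_map.{u + 1} (J := J S) t s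
      rw [h1, hφ]
      exact (GrothendieckTopology.uliftYonedaEquiv_naturality'.{u + 1} (J := J S) _ t).symm }⟩
  refine ⟨y, fun T g => ?_⟩
  apply (J S).uliftYonedaEquiv.injective
  rw [GrothendieckTopology.uliftYonedaEquiv_comp]
  change (J S).uliftYonedaEquiv (φ T ((J S).uliftYonedaEquiv.symm ((J S).uliftYonedaEquiv g))) = _
  rw [Equiv.symm_apply_apply]

/-- The equalizer of two sections of a sheaf with representable diagonal. -/
theorem exists_equalizer (hX : Representable (Limits.diag X)) {T : Over S} (a b : (yon S).obj T ⟶ X) :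
    ∃ (E : Over S) (e : E ⟶ T), Mono e ∧ (yon S).map e ≫ a = (yon S).map e ≫ b ∧
      ∀ (R : Over S) (r : R ⟶ T), (yon S).map r ≫ a = (yon S).map r ≫ b → ∃! s : R ⟶ E, s ≫ e = r := by
  obtain ⟨E, e, fst, sq⟩ := hX (prod.lift a b)
  have hw1 : fst = (yon S).map e ≫ a := by
    have h1 : (fst ≫ Limits.diag X) ≫ prod.fst = ((yon S).map e ≫ prod.lift a b) ≫ prod.fst := by rw [sq.w]
    rwa [Category.assoc, Category.assoc, prod.lift_fst, prod.lift_fst, Category.comp_id] at h1
  have hw2 : fst = (yon S).map e ≫ b := by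
    have h1 : (fst ≫ Limits.diag X) ≫ prod.snd = ((yon S).map e ≫ prod.lift a b) ≫ prod.snd := by rw [sq.w]
    rwa [Category.assoc, Category.assoc, prod.lift_snd, prod.lift_snd, Category.comp_id] at h1
  have hmono : Mono ((yon S).map e) := by
    have : Mono (Limits.diag X) := inferInstance
    exact (MorphismProperty.monomorphisms (Sp S)).of_isPullback sq this
  have hmono' : Mono e := (yon S).mono_of_mono_map hmono
  refine ⟨E, e, hmono', by rw [← hw1, ← hw2], fun R r hr => ?_⟩
  have hw : ((yon S).map r ≫ a) ≫ Limits.diag X = (yon S).map r ≫ prod.lift a b := by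
    apply Limits.prod.hom_ext
    · rw [Category.assoc, Category.assoc, Category.assoc, prod.lift_fst, prod.lift_fst,
        Category.comp_id]
    · rw [Category.assoc, Category.assoc, Category.assoc, prod.lift_snd, prod.lift_snd,
        Category.comp_id, hr]
  obtain ⟨s, hs⟩ := (yon S).map_surjective (sq.lift _ _ hw)
  refine ⟨s, ?_, fun s' hs' => ?_⟩
  · apply (yon S).map_injective
    rw [Functor.map_comp, hs, sq.lift_snd]
  · rw [← cancel_mono e, hs']
    apply (yon S).map_injective
    rw [Functor.map_comp, hs, sq.lift_snd]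

/-- A monomorphism of schemes through which a flat surjective quasi-compact morphism factors is an isomorphism. -/
theorem FqC.isIso_of_mono {T T' E : Over S} {c : T' ⟶ T} (h : FqC c) (e : E ⟶ T) [Mono e] (s : T' ⟶ E)
    (hs : s ≫ e = c) : IsIso e := by
  have hm : Mono e.left := inferInstance
  have sq := IsPullback.of_hasPullback c.left e.left
  have h1 : IsSplitEpi (pullback.fst c.left e.left) :=
    ⟨⟨pullback.lift (𝟙 _) s.left (by rw [Category.id_comp, ← hs]; rfl), pullback.lift_fst _ _ _⟩⟩
  have h2 : IsIso (pullback.fst c.left e.left) := isIso_of_mono_of_isSplitEpi _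
  have h3 : (MorphismProperty.isomorphisms Scheme.{u}) e.left :=
    MorphismProperty.of_isPullback_of_descendsAlong
      (Q := (@Surjective ⊓ @Flat ⊓ @QuasiCompact : MorphismProperty Scheme.{u})) sq h.mem h2
  have : IsIso ((Over.forget S).map e) := h3
  exact isIso_of_reflects_iso e (Over.forget S)

/-- A sheaf with representable diagonal is separated for flat surjective quasi-compact morphisms. -/
theorem FqC.separated (hX : Representable (Limits.diag X)) {T T' : Over S} {c : T' ⟶ T} (h : FqC c)
    (a b : (yon S).obj T ⟶ X) (hab : (yon S).map c ≫ a = (yon S).map c ≫ b) : a = b := by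
  obtain ⟨E, e, _, he, hu⟩ := exists_equalizer hX a b
  obtain ⟨s, hs, -⟩ := hu T' c hab
  have := h.isIso_of_mono e s hs
  rwa [cancel_epi] at he

/-- **Isomorphisms descend**: `m : X ⟶ h_U` from a sheaf with representable diagonal and an etale chart, which
becomes an isomorphism after a flat surjective quasi-compact base change, is an isomorphism. -/
theorem FqC.isIso (hX : IsAlgSpace X) {U V : Over S} (m : X ⟶ (yon S).obj U) {r : V ⟶ U} (h : FqC r)
    {X' : Sp S} {fst : X' ⟶ X} {snd : X' ⟶ (yon S).obj V} (sq : IsPullback fst snd m ((yon S).map r)) [IsIso snd] :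
    IsIso m := by
  have hinj : ∀ (T : Over S) (a b : (yon S).obj T ⟶ X), a ≫ m = b ≫ m → a = b := by
    intro T a b hab
    obtain ⟨t, ht⟩ := (yon S).map_surjective (a ≫ m)
    refine FqC.separated hX.diag (h.pullback_fst t) a b ?_
    have h1 : ((yon S).map (pullback.fst t r) ≫ a) ≫ m = (yon S).map (pullback.snd t r) ≫ (yon S).map r := by
      rw [Category.assoc, ← ht, ← Functor.map_comp, ← Functor.map_comp, pullback.condition]
    have h2 : ((yon S).map (pullback.fst t r) ≫ b) ≫ m = (yon S).map (pullback.snd t r) ≫ (yon S).map r := by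
      rw [Category.assoc, ← hab, ← ht, ← Functor.map_comp, ← Functor.map_comp, pullback.condition]
    rw [← sq.lift_fst _ _ h1, ← sq.lift_fst _ _ h2]
    congr 1
    rw [← cancel_mono snd, sq.lift_snd, sq.lift_snd]
  have hmono : Mono m := mono_of_injective hinj
  obtain ⟨W, p, hpe, hps⟩ := hX.atlas
  -- the base change of the chart
  obtain ⟨N, snd', fst', sq'⟩ := hpe.1 (inv snd ≫ fst)
  have hNe : Etale snd'.left := hpe.2 _ _ _ sq'
  have hNs : Surjective snd'.left := hps.2 _ _ _ sq'
  have sq0 : IsPullback (inv snd ≫ fst) (𝟙 _) m ((yon S).map r) := by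
    refine IsPullback.of_iso sq (asIso snd) (Iso.refl _) (Iso.refl _) (Iso.refl _) ?_ ?_ ?_ ?_
    · simp
    · simp
    · simp
    · simp
  have sq1 : IsPullback fst' ((yon S).map snd') (p ≫ m) ((yon S).map r) := by
    have := sq'.paste_vert sq0
    rwa [Category.comp_id] at this
  obtain ⟨w, hw⟩ := (yon S).map_surjective (p ≫ m)
  obtain ⟨n, rfl⟩ := (yon S).map_surjective fst'
  rw [← hw] at sq1
  have sq2 : IsPullback n.left snd'.left w.left r.left :=
    (IsPullback.of_map (yon S) ((yon S).map_injective (by
      rw [Functor.map_comp, Functor.map_comp]; exact sq1.w)) sq1).map (Over.forget S)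
  have hwe : Etale w.left := MorphismProperty.of_isPullback_of_descendsAlong (P := @Etale)
    (Q := (@Surjective ⊓ @Flat ⊓ @QuasiCompact : MorphismProperty Scheme.{u})) sq2.flip h.mem hNe
  have hws : Surjective w.left := MorphismProperty.of_isPullback_of_descendsAlong (P := @Surjective)
    (Q := (@Surjective ⊓ @Flat ⊓ @QuasiCompact : MorphismProperty Scheme.{u})) sq2.flip h.mem hNs
  have hw' : EtC w := ⟨hwe, hws⟩
  have : ESurj (p ≫ m) := by rw [← hw]; exact hw'.eSurj
  exact this.of_comp.fSurj.isIso_of_mono

end K628.Fqc
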