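import Groth.Agent.AlgSp.K628.Fqc
import Groth.Agent.Picfga.OverRep

/-!
# Zariski local representability on the base

* `RepAt P f h` : the base change of `f : X ⟶ Y` along `h : h_U ⟶ Y` is represented by a scheme `V` over `U` and
  `V ⟶ U` has `P`.
* `RepAt.of_cover` : `RepAt P f h` can be checked on a Zariski covering of `U`.
* `representable_of_affine`, `repWith_of_affine` : representability can be checked over affine schemes.
-/

set_option autoImplicit false
universe u

open CategoryTheory CategoryTheory.Limits AlgebraicGeometry Opposite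

namespace K628.ZarRep

open AlgSp K613.Basic K613.Cover K628.Fqc Groth.Agent.Picfga.OverRep

variable {S : Scheme.{u}} {F G H X Y : Sp S}

/-- The section of `F` over `T` attached to `h_T ⟶ F`. -/
noncomputable def ev {T : Over S} (a : (yon S).obj T ⟶ F) : F.obj.obj (op T) := (J S).uliftYonedaEquiv a

theorem ev_injective {T : Over S} : Function.Injective (ev : ((yon S).obj T ⟶ F) → F.obj.obj (op T)) :=
  (J S).uliftYonedaEquiv.injective

theorem exists_ev {T : Over S} (x : F.obj.obj (op T)) : ∃ a : (yon S).obj T ⟶ F, ev a = x :=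
  ⟨(J S).uliftYonedaEquiv.symm x, Equiv.apply_symm_apply _ _⟩

theorem map_ev {T T' : Over S} (t : T' ⟶ T) (a : (yon S).obj T ⟶ F) :
    F.obj.map t.op (ev a) = ev ((yon S).map t ≫ a) := GrothendieckTopology.uliftYonedaEquiv_naturality (J S) _ _

theorem isZarSheaf (F : Sp S) : IsZarSheaf F.obj := by
  intro T 𝒰 x hx
  choose x' hx' using fun i => exists_ev (x i)
  obtain ⟨y, hy, hy'⟩ := glueFam (F := F) 𝒰.V 𝒰.j (fun i => inferInstance) (fun i => inferInstance) 𝒰.covers
    x' (fun i j R a b hab => by
      have := hx i j R a b hab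
      rw [← hx', ← hx', map_ev, map_ev] at this
      exact ev_injective this)
  refine ⟨ev y, fun i => ?_, fun z hz => ?_⟩
  · rw [map_ev, hy i, hx']
  · obtain ⟨z, rfl⟩ := exists_ev z
    rw [hy' z (fun i => ?_)]
    apply ev_injective
    rw [← map_ev, hx']
    exact hz i

/-- The base change of `f` along `h` is represented by a scheme with structure morphism in `P`. -/
def RepAt (P : MorphismProperty Scheme.{u}) (f : X ⟶ Y) {U : Over S} (h : (yon S).obj U ⟶ Y) : Prop :=
  ∃ (V : Over S) (fst : (yon S).obj V ⟶ X) (snd : V ⟶ U), IsPullback fst ((yon S).map snd) f h ∧ P snd.left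

section

variable {f : X ⟶ Y} {U : Over S} {h : (yon S).obj U ⟶ Y} {ι : Type u} {Uk : ι → Over S} {j : ∀ k, Uk k ⟶ U}
  (hj : ∀ k, IsOpenImmersion (j k).left) (hcov : ∀ u : U.left, ∃ (k : ι) (u' : (Uk k).left), (j k).left u' = u)
  (V : ι → Over S) (fst : ∀ k, (yon S).obj (V k) ⟶ X) (snd : ∀ k, V k ⟶ Uk k)
  (sq : ∀ k, IsPullback (fst k) ((yon S).map (snd k)) f ((yon S).map (j k) ≫ h))

/-- the chart attached to `V k` -/
noncomputable def xi (k : ι) : (yon S).obj (V k) ⟶ pullback f h :=
  pullback.lift (fst k) ((yon S).map (snd k ≫ j k)) (by rw [(sq k).w, Functor.map_comp, Category.assoc])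

@[reassoc]
theorem xi_fst (k : ι) : xi V fst snd sq k ≫ pullback.fst f h = fst k := pullback.lift_fst _ _ _

@[reassoc]
theorem xi_snd (k : ι) : xi V fst snd sq k ≫ pullback.snd f h = (yon S).map (snd k ≫ j k) := pullback.lift_snd _ _ _

include hj in
theorem xi_injective (k : ι) {T : Over S} (a b : T ⟶ V k)
    (hab : (yon S).map a ≫ xi V fst snd sq k = (yon S).map b ≫ xi V fst snd sq k) : a = b := by
  have h1 : (yon S).map a ≫ fst k = (yon S).map b ≫ fst k := by
    rw [← xi_fst V fst snd sq, ← Category.assoc, hab, Category.assoc]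
  have h2 : (yon S).map (a ≫ snd k ≫ j k) = (yon S).map (b ≫ snd k ≫ j k) := by
    rw [Functor.map_comp, ← xi_snd V fst snd sq, ← Category.assoc, hab, Category.assoc, xi_snd, ← Functor.map_comp]
  have h3 := (yon S).map_injective h2
  have := hj k
  have hm : Mono (j k) := by
    have : Mono ((Over.forget S).map (j k)) := inferInstanceAs (Mono (j k).left)
    exact (Over.forget S).mono_of_mono_map this
  rw [← Category.assoc, ← Category.assoc, cancel_mono] at h3
  apply (yon S).map_injective
  apply (sq k).hom_ext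
  · exact h1
  · rw [← Functor.map_comp, ← Functor.map_comp, h3]

include hj in
theorem exists_factor (k : ι) {T : Over S} (x : (yon S).obj T ⟶ pullback f h) (τ : T ⟶ U)
    (hτ : (yon S).map τ = x ≫ pullback.snd f h) (hr : ∀ t, τ.left t ∈ Set.range (j k).left) :
    ∃ v : T ⟶ V k, (yon S).map v ≫ xi V fst snd sq k = x := by
  have := hj k
  let l : T.left ⟶ (Uk k).left := IsOpenImmersion.lift (j k).left τ.left (by
    rintro _ ⟨t, rfl⟩
    exact hr t)
  have hl : l ≫ (j k).left = τ.left := IsOpenImmersion.lift_fac _ _ _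
  let l' : T ⟶ Uk k := Over.homMk l (by rw [← Over.w (j k), ← Category.assoc, hl, Over.w])
  have hl' : l' ≫ j k = τ := Over.OverMorphism.ext hl
  have hw : (x ≫ pullback.fst f h) ≫ f = (yon S).map l' ≫ (yon S).map (j k) ≫ h := by
    rw [Category.assoc, pullback.condition, ← Category.assoc, ← hτ, ← hl', Functor.map_comp, Category.assoc]
  obtain ⟨v, hv⟩ := (yon S).map_surjective ((sq k).lift _ _ hw)
  refine ⟨v, ?_⟩
  apply pullback.hom_ext
  · rw [Category.assoc, xi_fst, hv, IsPullback.lift_fst]
  · rw [Category.assoc, xi_snd, Functor.map_comp, ← Category.assoc, hv, IsPullback.lift_snd, ← Functor.map_comp,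
      hl', hτ]

theorem range_subset (k : ι) {T R : Over S} (x : (yon S).obj T ⟶ pullback f h) (τ : T ⟶ U)
    (hτ : (yon S).map τ = x ≫ pullback.snd f h) (ρ : R ⟶ T) (v : R ⟶ V k)
    (hv : (yon S).map v ≫ xi V fst snd sq k = (yon S).map ρ ≫ x) (r : R.left) :
    τ.left (ρ.left r) ∈ Set.range (j k).left := by
  have h1 : v ≫ snd k ≫ j k = ρ ≫ τ := by
    apply (yon S).map_injective
    rw [Functor.map_comp, ← xi_snd V fst snd sq, ← Category.assoc, hv, Category.assoc, ← hτ, ← Functor.map_comp]
  refine ⟨(v ≫ snd k).left r, ?_⟩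
  have h2 : (v ≫ snd k).left ≫ (j k).left = ρ.left ≫ τ.left := by
    rw [← Over.comp_left, ← Over.comp_left, Category.assoc, h1]
  rw [← Scheme.Hom.comp_apply, h2, Scheme.Hom.comp_apply]

/-- The charts of the base change. -/
noncomputable def charts : Charts (pullback f h).obj where
  ι := ι
  X := V
  ξ k := ev (xi V fst snd sq k)
  mono k T a b hab := by
    rw [map_ev, map_ev] at hab
    exact xi_injective hj V fst snd sq k a b (ev_injective hab)
  isOpen k T x T' g v hgv t := by
    have hj' := hj k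
    obtain ⟨x, rfl⟩ := exists_ev x
    rw [map_ev, map_ev] at hgv
    have hgv := ev_injective hgv
    obtain ⟨τ, hτ⟩ := (yon S).map_surjective (x ≫ pullback.snd f h)
    let O : T.left.Opens := τ.left ⁻¹ᵁ (j k).left.opensRange
    obtain ⟨v', hv'⟩ := exists_factor hj V fst snd sq k ((yon S).map (res T O) ≫ x) (res T O ≫ τ)
      (by rw [Functor.map_comp, hτ, Category.assoc]) (fun t => by
        obtain ⟨t, ht⟩ := t
        exact ht)
    refine ⟨O, v', ?_, ?_⟩
    · exact range_subset V fst snd sq k x τ hτ g v hgv t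
    · rw [map_ev, map_ev, hv']
  covers T x t := by
    obtain ⟨x, rfl⟩ := exists_ev x
    obtain ⟨τ, hτ⟩ := (yon S).map_surjective (x ≫ pullback.snd f h)
    obtain ⟨k, u', hu'⟩ := hcov (τ.left t)
    have hj' := hj k
    let O : T.left.Opens := τ.left ⁻¹ᵁ (j k).left.opensRange
    obtain ⟨v', hv'⟩ := exists_factor hj V fst snd sq k ((yon S).map (res T O) ≫ x) (res T O ≫ τ)
      (by rw [Functor.map_comp, hτ, Category.assoc]) (fun t => by
        obtain ⟨t, ht⟩ := t
        exact ht)
    refine ⟨k, O, v', ⟨u', hu'⟩, ?_⟩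
    rw [map_ev, map_ev, hv']

end

/-- Zariski local representability on the base, for an explicit covering. -/
theorem RepAt.of_cover {P : MorphismProperty Scheme.{u}} [IsZariskiLocalAtTarget P] {f : X ⟶ Y} {U : Over S}
    {h : (yon S).obj U ⟶ Y} {ι : Type u} (Uk : ι → Over S) (j : ∀ k, Uk k ⟶ U)
    (hj : ∀ k, IsOpenImmersion (j k).left) (hcov : ∀ u : U.left, ∃ (k : ι) (u' : (Uk k).left), (j k).left u' = u)
    (H : ∀ k, RepAt P f ((yon S).map (j k) ≫ h)) : RepAt P f h := by
  choose V fst snd sq hP using H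
  obtain ⟨W, Z, hZ⟩ := (charts hj hcov V fst snd sq).exists_universal (isZarSheaf _)
  obtain ⟨z, rfl⟩ := exists_ev Z
  have hz : IsIso z := by
    refine isIso_of_bijective fun T y => ?_
    obtain ⟨g, hg, hg'⟩ := hZ T (ev y)
    refine ⟨(yon S).map g, ?_, fun x hx => ?_⟩
    · dsimp only at hg
      rw [map_ev] at hg
      exact ev_injective hg
    · obtain ⟨x, rfl⟩ := (yon S).map_surjective x
      rw [hg' x (by
        dsimp only
        rw [map_ev]
        exact congrArg _ hx)]
  obtain ⟨w, hw⟩ := (yon S).map_surjective (z ≫ pullback.snd f h)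
  have sqW : IsPullback (z ≫ pullback.fst f h) ((yon S).map w) f h := by
    rw [hw]
    refine IsPullback.of_iso (IsPullback.of_hasPullback f h) (asIso z).symm (Iso.refl _) (Iso.refl _) (Iso.refl _)
      ?_ ?_ ?_ ?_ <;> simp
  refine ⟨W, _, w, sqW, ?_⟩
  let 𝒰 : Scheme.OpenCover.{u} U.left :=
    { I₀ := ι
      X := fun k => (Uk k).left
      f := fun k => (j k).left
      mem₀ := by
        rw [Scheme.presieve₀_mem_precoverage_iff]
        exact ⟨fun t => hcov t, hj⟩ }
  refine IsZariskiLocalAtTarget.of_openCover 𝒰 fun k => ?_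
  have hlift : fst k ≫ f = (yon S).map (snd k ≫ j k) ≫ h := by
    rw [(sq k).w, Functor.map_comp, Category.assoc]
  obtain ⟨a, ha⟩ := (yon S).map_surjective (sqW.lift (fst k) ((yon S).map (snd k ≫ j k)) hlift)
  have ha1 : (yon S).map a ≫ z ≫ pullback.fst f h = fst k := by rw [ha, sqW.lift_fst]
  have ha2 : a ≫ w = snd k ≫ j k := by
    apply (yon S).map_injective
    rw [Functor.map_comp, ha, sqW.lift_snd]
  have h1 : IsPullback ((yon S).map a) ((yon S).map (snd k)) ((yon S).map w) ((yon S).map (j k)) :=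
    IsPullback.of_right (by rw [ha1]; exact sq k) (by rw [← Functor.map_comp, ha2, Functor.map_comp]) sqW
  have h2 : IsPullback a.left (snd k).left w.left (j k).left :=
    (IsPullback.of_map (yon S) ha2 h1).map (Over.forget S)
  change P (pullback.snd w.left (j k).left)
  rw [← P.cancel_left_of_respectsIso h2.isoPullback.hom, h2.isoPullback_hom_snd]
  exact hP k

/-- Affine opens of a scheme over `S` as schemes over `S`. -/
theorem RepAt.of_affine {P : MorphismProperty Scheme.{u}} [IsZariskiLocalAtTarget P] {f : X ⟶ Y} {U : Over S}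
    {h : (yon S).obj U ⟶ Y}
    (H : ∀ (Z : Over S) (c : Z ⟶ U), IsAffine Z.left → IsOpenImmersion c.left → RepAt P f ((yon S).map c ≫ h)) :
    RepAt P f h := by
  refine RepAt.of_cover (ι := U.left.affineOpens) (fun W => Over.mk (W.1.ι ≫ U.hom)) (fun W => Over.homMk W.1.ι rfl)
    (fun W => inferInstanceAs (IsOpenImmersion W.1.ι)) (fun u => ?_) (fun W => H _ _ W.2 (inferInstanceAs (IsOpenImmersion W.1.ι)))
  obtain ⟨_, ⟨W, hW, rfl⟩, hu, -⟩ := U.left.isBasis_affineOpens.exists_subset_of_mem_open (Set.mem_univ u) isOpen_univ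
  exact ⟨⟨W, hW⟩, ⟨u, hu⟩, rfl⟩

theorem RepAt.repWith {P : MorphismProperty Scheme.{u}} [P.RespectsIso] {f : X ⟶ Y}
    (H : ∀ (U : Over S) (h : (yon S).obj U ⟶ Y), RepAt P f h) : RepWith P f := by
  refine ⟨fun U h => ?_, fun U V h fst snd sq => ?_⟩
  · obtain ⟨V, fst, snd, sq, -⟩ := H U h
    exact ⟨V, snd, fst, sq⟩
  · obtain ⟨V', fst', snd', sq', hP⟩ := H U h
    obtain ⟨e, he⟩ := (yon S).map_surjective (sq'.lift fst ((yon S).map snd) sq.w)
    obtain ⟨e', he'⟩ := (yon S).map_surjective (sq.lift fst' ((yon S).map snd') sq'.w)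
    have h1 : e ≫ snd' = snd := by
      apply (yon S).map_injective
      rw [Functor.map_comp, he, sq'.lift_snd]
    have h2 : e' ≫ snd = snd' := by
      apply (yon S).map_injective
      rw [Functor.map_comp, he', sq.lift_snd]
    have h3 : e ≫ e' = 𝟙 _ := by
      apply (yon S).map_injective
      apply sq.hom_ext
      · rw [Functor.map_comp, Category.assoc, he', sq.lift_fst, he, sq'.lift_fst, CategoryTheory.Functor.map_id,
          Category.id_comp]
      · rw [← Functor.map_comp, Category.assoc, h2, h1, CategoryTheory.Functor.map_id, Category.id_comp]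
    have h4 : e' ≫ e = 𝟙 _ := by
      apply (yon S).map_injective
      apply sq'.hom_ext
      · rw [Functor.map_comp, Category.assoc, he, sq'.lift_fst, he', sq.lift_fst, CategoryTheory.Functor.map_id,
          Category.id_comp]
      · rw [← Functor.map_comp, Category.assoc, h1, h2, CategoryTheory.Functor.map_id, Category.id_comp]
    have : IsIso e := ⟨e', h3, h4⟩
    have h5 : snd.left = e.left ≫ snd'.left := by rw [← h1, Over.comp_left]
    have : IsIso e.left := inferInstanceAs (IsIso ((Over.forget S).map e))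
    change P snd.left
    rw [h5]
    exact (P.cancel_left_of_respectsIso _ _).2 hP

theorem repAt_of_repWith {P : MorphismProperty Scheme.{u}} {f : X ⟶ Y} (hf : RepWith P f) {U : Over S}
    (h : (yon S).obj U ⟶ Y) : RepAt P f h := by
  obtain ⟨V, snd, fst, sq⟩ := hf.1 h
  exact ⟨V, fst, snd, sq, hf.2 _ _ _ sq⟩

/-- `RepWith P` can be checked on base changes to affine schemes. -/
theorem repWith_of_affine {P : MorphismProperty Scheme.{u}} [IsZariskiLocalAtTarget P] {f : X ⟶ Y}
    (H : ∀ (Z : Over S), IsAffine Z.left → ∀ h : (yon S).obj Z ⟶ Y, RepAt P f h) : RepWith P f :=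
  RepAt.repWith fun _ _ => RepAt.of_affine fun Z _ hZ _ => H Z hZ _

end K628.ZarRep
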